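import Cfsg.Agent.SigO.Con2
import Cfsg.Agent.H32.SFCore
import Cfsg.Agent.BS.Base
import Cfsg.Agent.H80.Index2
import Cfsg.Agent.H4.Final
import Cfsg.Agent.S1279

/-!
A 2-local theorem used for the Kegel--Wielandt theorem: a Sylow `r`-subgroup centralised by a Sylow
2-subgroup lies in the odd core if `N(R)` and the centralizer of a suitable central involution are in a
solvable subgroup `M` with `R ≤ O(M)`.  Part 1: the configuration.
-/

set_option autoImplicit false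
set_option linter.all false

namespace Cfsg.Agent.H30.KW

open Subgroup Cfsg.Agent.SigF Cfsg.Agent.H32.SFB

universe u

section gen
variable {G : Type u} [Group G]

theorem index_cj (g : G) (H : Subgroup G) : (cj g H).index = H.index := by
  rw [cj_def]
  exact Subgroup.index_map_of_bijective (MulAut.conj g).bijective H

theorem le_cj_of {g : G} {H K : Subgroup G} (h : ∀ x ∈ H, g * x * g⁻¹ ∈ K) : cj g H ≤ K := by
  rintro _ ⟨x, hx, rfl⟩
  exact h x hx

variable [Finite G]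

theorem syl_of_le {q : ℕ} [Fact q.Prime] {Q K : Subgroup G} (hQ : IsPGroup q Q)
    (hi : ¬ q ∣ Q.index) (hQK : Q ≤ K) : IsSyl q Q K :=
  isSyl_of_not_dvd hQ hQK fun h => hi (h.trans ⟨K.index, (Subgroup.relIndex_mul_index hQK).symm⟩)

theorem exists_conj_mem {q : ℕ} [Fact q.Prime] {S K : Subgroup G} (hS : IsSyl q S K) {t : G} (ht : t ∈ K)
    (hq : IsPGroup q (zpowers t)) : ∃ k ∈ K, k * t * k⁻¹ ∈ S := by
  obtain ⟨Q, hQ, htQ⟩ := exists_isSyl_ge hq (zpowers_le.2 ht)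
  obtain ⟨k, hk, hkQ⟩ := hQ.exists_cj hS
  refine ⟨k, hk, ?_⟩
  rw [← hkQ]
  exact conj_mem_cj (htQ (mem_zpowers t))

theorem le_syl_of_normal {q : ℕ} [Fact q.Prime] {S K N : Subgroup G} (hS : IsSyl q S K) (hN : IsPGroup q N)
    (hNK : N ≤ K) (hn : K ≤ normalizer (N : Set G)) : N ≤ S := by
  obtain ⟨Q, hQ, hNQ⟩ := exists_isSyl_ge hN hNK
  obtain ⟨k, hk, hkQ⟩ := hQ.exists_cj hS
  rw [← hkQ, ← mem_normalizer_iff_cj.1 (hn hk)]
  exact cj_mono hNQ

theorem isPGroup_zpowers_of_order_two {t : G} (ht : orderOf t = 2) : IsPGroup 2 (zpowers t) :=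
  IsPGroup.of_card (n := 1) (by rw [Nat.card_zpowers, ht, pow_one])

theorem order_conj (g t : G) : orderOf (g * t * g⁻¹) = orderOf t := by
  have := (MulAut.conj g).orderOf_eq t
  simpa [MulAut.conj_apply] using this

/-- Frattini: if `R` is Sylow in `G` and `R ≤ O`, `O` normalised by `x`, then `x ∈ O N(R)` -/
theorem frattini_elt {q : ℕ} [Fact q.Prime] {R O : Subgroup G} (hR : IsPGroup q R) (hi : ¬ q ∣ R.index)
    (hRO : R ≤ O) {x : G} (hx : cj x O = O) : ∃ o ∈ O, o * x ∈ normalizer (R : Set G) := by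
  have h1 : IsSyl q R O := syl_of_le hR hi hRO
  have h2 : IsSyl q (cj x R) O := syl_of_le (isPGroup_cj hR) (by rw [index_cj]; exact hi) (hx ▸ cj_mono hRO)
  obtain ⟨o, ho, h3⟩ := h2.exists_cj h1
  exact ⟨o, ho, by rw [mem_normalizer_iff_cj, cj_mul, h3]⟩

end gen

structure Hyp {G : Type u} [Group G] (r : ℕ) (S R M : Subgroup G) (e : G) : Prop where
  hS : IsPGroup 2 S
  hS2 : ¬ 2 ∣ S.index
  hR : IsPGroup r R
  hR2 : ¬ r ∣ R.index
  comm : ∀ s ∈ S, ∀ x ∈ R, s * x = x * s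
  solv : Group.IsSolvable M
  norm : normalizer (R : Set G) ≤ M
  core : ∃ K ≤ M, M ≤ normalizer (K : Set G) ∧ Odd (Nat.card K) ∧ R ≤ K
  he : e ∈ S
  he2 : orderOf e = 2
  hec : ∀ s ∈ S, s * e = e * s
  hcen : centralizer ({e} : Set G) ≤ M
  hcomm : ∀ m ∈ M, e * (m * e * m⁻¹) = (m * e * m⁻¹) * e

namespace Hyp

variable {G : Type u} [Group G] [Finite G] {r : ℕ} [hr : Fact r.Prime] {S R M : Subgroup G} {e : G}

theorem RC (h : Hyp r S R M e) {x : G} (hx : x ∈ S) : R ≤ centralizer ({x} : Set G) := fun a ha =>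
  mem_centralizer_singleton_iff.2 (h.comm x hx a ha).symm

theorem fus (h : Hyp r S R M e) {x g : G} (hx : x ∈ S) (hg : g * x * g⁻¹ ∈ S) :
    ∃ n ∈ normalizer (R : Set G), n * x * n⁻¹ = g * x * g⁻¹ := by
  set y := g * x * g⁻¹ with hy
  have hgR : cj g R ≤ centralizer ({y} : Set G) := by
    rw [hy, ← cj_centralizer_singleton]; exact cj_mono (h.RC hx)
  have h1 : IsSyl r R (centralizer ({y} : Set G)) := syl_of_le h.hR h.hR2 (h.RC hg)
  have h2 : IsSyl r (cj g R) (centralizer ({y} : Set G)) :=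
    syl_of_le (isPGroup_cj h.hR) (by rw [index_cj]; exact h.hR2) hgR
  obtain ⟨c, hc, hcg⟩ := h2.exists_cj h1
  refine ⟨c * g, by rw [mem_normalizer_iff_cj, cj_mul, hcg], ?_⟩
  have h3 : c * y = y * c := mem_centralizer_singleton_iff.1 hc
  calc c * g * x * (c * g)⁻¹ = c * y * c⁻¹ := by rw [hy]; group
    _ = y := by rw [h3]; group

theorem SM (h : Hyp r S R M e) : S ≤ M := fun s hs => h.norm (by
  have := (centralizer_le_normalizer (R : Set G))
  apply this
  rw [mem_centralizer_iff]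
  intro x hx
  exact (h.comm s hs x hx).symm)

theorem sylM (h : Hyp r S R M e) : IsSyl 2 S M :=
  haveI := Fact.mk Nat.prime_two
  syl_of_le h.hS h.hS2 h.SM

theorem RM (h : Hyp r S R M e) : R ≤ M := le_normalizer.trans h.norm

theorem eM (h : Hyp r S R M e) : e ∈ M := h.SM h.he

theorem inM (h : Hyp r S R M e) {g : G} (hg : g * e * g⁻¹ ∈ M) : ∃ m ∈ M, m * e * m⁻¹ = g * e * g⁻¹ := by
  haveI := Fact.mk Nat.prime_two
  obtain ⟨k, hk, h1⟩ := exists_conj_mem h.sylM hg (isPGroup_zpowers_of_order_two (by rw [order_conj, h.he2]))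
  have e1 : k * (g * e * g⁻¹) * k⁻¹ = (k * g) * e * (k * g)⁻¹ := by group
  rw [e1] at h1
  obtain ⟨n, hn, h2⟩ := h.fus h.he h1
  refine ⟨k⁻¹ * n, mul_mem (inv_mem hk) (h.norm hn), ?_⟩
  calc k⁻¹ * n * e * (k⁻¹ * n)⁻¹ = k⁻¹ * (n * e * n⁻¹) * k := by group
    _ = g * e * g⁻¹ := by rw [h2]; group

theorem memM (h : Hyp r S R M e) {g : G} (hg : g * e * g⁻¹ ∈ M) : g ∈ M := by
  obtain ⟨m, hm, h1⟩ := h.inM hg
  have h2 : m⁻¹ * g ∈ centralizer ({e} : Set G) := by
    rw [mem_centralizer_singleton_iff]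
    calc m⁻¹ * g * e = m⁻¹ * (g * e * g⁻¹) * g := by group
      _ = m⁻¹ * (m * e * m⁻¹) * g := by rw [h1]
      _ = e * (m⁻¹ * g) := by group
  have h3 := mul_mem hm (h.hcen h2)
  rwa [mul_inv_cancel_left] at h3

theorem memM' (h : Hyp r S R M e) {m g : G} (hm : m ∈ M) (hg : g * (m * e * m⁻¹) * g⁻¹ ∈ M) : g ∈ M := by
  have e1 : g * (m * e * m⁻¹) * g⁻¹ = (g * m) * e * (g * m)⁻¹ := by group
  rw [e1] at hg
  have := mul_mem (h.memM hg) (inv_mem hm)
  rwa [mul_inv_cancel_right] at this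

/-- the conjugates of `e` under `M` -/
def D (M : Subgroup G) (e : G) : Set G := {x | ∃ m ∈ M, x = m * e * m⁻¹}

def E (M : Subgroup G) (e : G) : Subgroup G := closure (D M e)

theorem D_comm (h : Hyp r S R M e) {x y : G} (hx : x ∈ D M e) (hy : y ∈ D M e) : x * y = y * x := by
  obtain ⟨m, hm, rfl⟩ := hx
  obtain ⟨k, hk, rfl⟩ := hy
  have h1 := h.hcomm (m⁻¹ * k) (mul_mem (inv_mem hm) hk)
  calc m * e * m⁻¹ * (k * e * k⁻¹) = m * (e * ((m⁻¹ * k) * e * (m⁻¹ * k)⁻¹)) * m⁻¹ := by group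
    _ = m * (((m⁻¹ * k) * e * (m⁻¹ * k)⁻¹) * e) * m⁻¹ := by rw [h1]
    _ = k * e * k⁻¹ * (m * e * m⁻¹) := by group

theorem E_comm (h : Hyp r S R M e) {x y : G} (hx : x ∈ E M e) (hy : y ∈ E M e) : x * y = y * x := by
  have h1 : E M e ≤ centralizer (D M e) := by
    rw [E, closure_le]
    intro z hz
    rw [SetLike.mem_coe, mem_centralizer_iff]
    intro w hw
    exact h.D_comm hw hz
  have h2 : E M e ≤ centralizer (E M e : Set G) := by
    nth_rewrite 1 [E]
    rw [closure_le]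
    intro z hz
    rw [SetLike.mem_coe, mem_centralizer_iff]
    intro w hw
    exact ((mem_centralizer_iff.1 (h1 hw)) z hz).symm
  exact (mem_centralizer_iff.1 (h2 hy)) x hx

theorem D_sq (h : Hyp r S R M e) {x : G} (hx : x ∈ D M e) : x ^ 2 = 1 := by
  obtain ⟨m, hm, rfl⟩ := hx
  have : orderOf (m * e * m⁻¹) = 2 := by rw [order_conj, h.he2]
  have h2 := pow_orderOf_eq_one (m * e * m⁻¹)
  rwa [this] at h2

theorem E_sq (h : Hyp r S R M e) {x : G} (hx : x ∈ E M e) : x ^ 2 = 1 := by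
  rw [E] at hx
  induction hx using closure_induction with
  | mem x hx => exact h.D_sq hx
  | one => exact one_pow 2
  | mul x y hx hy h1 h2 =>
    have : Commute x y := h.E_comm hx hy
    rw [this.mul_pow, h1, h2, one_mul]
  | inv x hx h1 => rw [inv_pow, h1, inv_one]

theorem E_elab (h : Hyp r S R M e) : Cfsg.IsElementaryAbelian 2 (E M e) :=
  ⟨IsMulCommutative.of_comm fun x y => Subtype.ext (h.E_comm x.2 y.2), fun x hx => h.E_sq hx⟩

theorem D_sub (h : Hyp r S R M e) {x : G} (hx : x ∈ D M e) : x ∈ E M e := subset_closure hx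

theorem e_mem (h : Hyp r S R M e) : e ∈ E M e := subset_closure ⟨1, one_mem _, by group⟩

theorem E_le_M (h : Hyp r S R M e) : E M e ≤ M := by
  rw [E, closure_le]
  rintro _ ⟨m, hm, rfl⟩
  exact mul_mem (mul_mem hm h.eM) (inv_mem hm)

theorem M_norm_E (h : Hyp r S R M e) : M ≤ normalizer (E M e : Set G) := by
  have key : ∀ m ∈ M, cj m (E M e) ≤ E M e := by
    intro m hm
    rw [cj_def, E, MonoidHom.map_closure, closure_le]
    rintro _ ⟨_, ⟨k, hk, rfl⟩, rfl⟩
    refine subset_closure ⟨m * k, mul_mem hm hk, ?_⟩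
    change m * (k * e * k⁻¹) * m⁻¹ = _
    group
  intro m hm
  rw [mem_normalizer_iff_cj]
  apply le_antisymm (key m hm)
  have := cj_mono (g := m) (key m⁻¹ (inv_mem hm))
  rwa [cj_cj_inv] at this

theorem E_le_S (h : Hyp r S R M e) : E M e ≤ S :=
  haveI := Fact.mk Nat.prime_two
  le_syl_of_normal h.sylM (isPGroup_of_elem h.E_elab) h.E_le_M h.M_norm_E

/-- the localised conclusion implies the factorisation of the centralizer -/
theorem cent_fact (h : Hyp r S R M e) {x : G} (hx : x ∈ S) (hR : R ≤ Cfsg.centralizerPPrimeCore 2 x) {c : G}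
    (hc : c ∈ centralizer ({x} : Set G)) : ∃ o ∈ Cfsg.centralizerPPrimeCore 2 x, ∃ m ∈ M,
      m ∈ centralizer ({x} : Set G) ∧ c = o * m := by
  haveI := Fact.mk Nat.prime_two
  have h1 : cj c (Cfsg.centralizerPPrimeCore 2 x) = Cfsg.centralizerPPrimeCore 2 x :=
    mem_normalizer_iff_cj.1 (Bal1.centralizer_le_normalizer_cppc x hc)
  obtain ⟨o, ho, h2⟩ := frattini_elt h.hR h.hR2 hR h1
  exact ⟨o⁻¹, inv_mem ho, o * c, h.norm h2, mul_mem (Bal1.cppc_le x ho) hc, by group⟩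

theorem cent_solvable (h : Hyp r S R M e) {x : G} (hx : x ∈ S) (hR : R ≤ Cfsg.centralizerPPrimeCore 2 x) :
    Group.IsSolvable (centralizer ({x} : Set G)) := by
  haveI := Fact.mk Nat.prime_two
  haveI := h.solv
  set C := centralizer ({x} : Set G) with hC
  set O := Cfsg.pPrimeCore 2 C with hO
  have hodd : Odd (Nat.card O) := Nat.coprime_two_right.1 (Solv.pPrimeCore_card_coprime 2)
  have h1 : Group.IsSolvable O := SigO.ft hodd
  haveI : Group.IsSolvable ↥(M ⊓ C) :=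
    Group.isSolvable_of_isSolvable_injective (f := Subgroup.inclusion (inf_le_left : M ⊓ C ≤ M))
      (Subgroup.inclusion_injective _)
  have h2 : Group.IsSolvable (C ⧸ O) := by
    refine Group.isSolvable_of_surjective
      (f := (QuotientGroup.mk' O).comp (Subgroup.inclusion (inf_le_right : M ⊓ C ≤ C))) ?_
    intro q
    obtain ⟨c, rfl⟩ := QuotientGroup.mk'_surjective O q
    obtain ⟨o, ho, m, hm, hmC, hc⟩ := h.cent_fact hx hR c.2
    obtain ⟨o', ho', rfl⟩ := ho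
    refine ⟨⟨m, (⟨hm, hmC⟩ : m ∈ M ⊓ C)⟩, ?_⟩
    have h3 : c = o' * ⟨m, hmC⟩ := Subtype.ext hc
    have h4 : QuotientGroup.mk' O o' = 1 := (QuotientGroup.eq_one_iff (N := O) o').2 ho'
    rw [h3, map_mul, h4, one_mul]
    rfl
  exact Group.isSolvable_of_ker_le_range O.subtype (QuotientGroup.mk' O) (by
    rw [QuotientGroup.ker_mk', Subgroup.range_subtype])

end Hyp

end Cfsg.Agent.H30.KW
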