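import Cfsg.Agent.H30.KWA
import Cfsg.Agent.H32.SFConstr
import Cfsg.Agent.Cop.Basic

/-! The 2-local theorem for Kegel--Wielandt, part 2: the group `H₁`. -/

set_option autoImplicit false
set_option linter.all false

namespace Cfsg.Agent.H30.KW

open Subgroup Cfsg.Agent.SigF Cfsg.Agent.H32.SFB

universe u

section gen
variable {G : Type u} [Group G] [Finite G]

theorem card_sup_mul_inf {H K : Subgroup G} (h : H ≤ normalizer (K : Set G)) :
    Nat.card ↥(H ⊔ K) * Nat.card ↥(H ⊓ K) = Nat.card H * Nat.card K := by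
  have h1 : Nat.card K * K.relIndex (H ⊔ K) = Nat.card ↥(H ⊔ K) := by
    have := Subgroup.relIndex_mul_relIndex ⊥ K (H ⊔ K) bot_le le_sup_right
    rwa [Subgroup.relIndex_bot_left, Subgroup.relIndex_bot_left] at this
  have h2 : Nat.card ↥(H ⊓ K) * (H ⊓ K).relIndex H = Nat.card H := by
    have := Subgroup.relIndex_mul_relIndex ⊥ (H ⊓ K) H bot_le inf_le_left
    rwa [Subgroup.relIndex_bot_left, Subgroup.relIndex_bot_left] at this
  rw [Cop.relIndex_sup_eq h] at h1
  have h3 : (H ⊓ K).relIndex H = K.relIndex H := Subgroup.inf_relIndex_left H K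
  rw [h3] at h2
  rw [← h1, ← h2]; ring

theorem odd_card_sup {H K : Subgroup G} (h : H ≤ normalizer (K : Set G)) (h1 : Odd (Nat.card H))
    (h2 : Odd (Nat.card K)) : Odd (Nat.card ↥(H ⊔ K)) := by
  have h3 := card_sup_mul_inf h
  have h4 : Odd (Nat.card ↥(H ⊔ K) * Nat.card ↥(H ⊓ K)) := by rw [h3]; exact h1.mul h2
  exact (Nat.odd_mul.1 h4).1

/-- the centralizer of an involution in an elementary abelian 2-group -/
theorem card_le_sq {V : Subgroup G} (hV : Cfsg.IsElementaryAbelian 2 V) {x : G} (hx : x ∈ normalizer (V : Set G))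
    (hx2 : x ^ 2 = 1) : Nat.card V ≤ (Nat.card ↥(V ⊓ centralizer ({x} : Set G))) ^ 2 := by
  have hc : ∀ a ∈ V, ∀ b ∈ V, a * b = b * a := fun a ha b hb => elem_comm hV ha hb
  have hn : ∀ v ∈ V, x * v * x⁻¹ ∈ V := fun v hv => (mem_normalizer_iff.1 hx v).1 hv
  have hxi : x⁻¹ = x := by
    rw [inv_eq_iff_mul_eq_one, ← pow_two]; exact hx2
  let f : V →* ↥(V ⊓ centralizer ({x} : Set G)) :=
    { toFun := fun v => ⟨v * (x * v * x⁻¹), mul_mem v.2 (hn v v.2), by
        change _ ∈ centralizer ({x} : Set G)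
        rw [mem_centralizer_singleton_iff]
        have h1 := hc v v.2 _ (hn v v.2)
        calc (v : G) * (x * v * x⁻¹) * x = (x * v * x⁻¹) * v * x := by rw [h1]
          _ = x * (v * (x⁻¹ * v * x)) := by group
          _ = x * (v * (x * v * x⁻¹)) := by rw [hxi]⟩
      map_one' := by ext; simp
      map_mul' := fun a b => by
        apply Subtype.ext
        change (a : G) * b * (x * (a * b) * x⁻¹) = a * (x * a * x⁻¹) * (b * (x * b * x⁻¹))
        have h1 := hc b b.2 _ (hn a a.2)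
        calc (a : G) * b * (x * (a * b) * x⁻¹) = a * (b * (x * a * x⁻¹)) * (x * b * x⁻¹) := by group
          _ = a * ((x * a * x⁻¹) * b) * (x * b * x⁻¹) := by rw [h1]
          _ = a * (x * a * x⁻¹) * (b * (x * b * x⁻¹)) := by group }
  have hk : f.ker.map V.subtype ≤ V ⊓ centralizer ({x} : Set G) := by
    rintro _ ⟨v, hv, rfl⟩
    refine ⟨v.2, ?_⟩
    have h1 : (v : G) * (x * v * x⁻¹) = 1 := congrArg Subtype.val (MonoidHom.mem_ker.1 hv)
    have h2 : (v : G) * v = 1 := by rw [← pow_two]; exact hV.2 v v.2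
    have h3 : x * (v : G) * x⁻¹ = v := mul_left_cancel (h1.trans h2.symm)
    change (v : G) ∈ centralizer ({x} : Set G)
    rw [mem_centralizer_singleton_iff]
    calc (v : G) * x = (x * v * x⁻¹) * x := by rw [h3]
      _ = x * v := by group
  have h1 : Nat.card f.ker ≤ Nat.card ↥(V ⊓ centralizer ({x} : Set G)) := by
    rw [← Subgroup.card_map_of_injective (K := f.ker) V.subtype_injective]
    exact Subgroup.card_le_of_le hk
  have h2 : Nat.card f.range ≤ Nat.card ↥(V ⊓ centralizer ({x} : Set G)) :=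
    Nat.card_le_card_of_injective _ (Subgroup.subtype_injective f.range)
  have h3 : Nat.card V = Nat.card f.ker * Nat.card f.range := by
    rw [← Subgroup.index_ker, Subgroup.card_mul_index]
  rw [h3, pow_two]
  exact Nat.mul_le_mul h1 h2

theorem isPGroup_of_elab {V : Subgroup G} (hV : Cfsg.IsElementaryAbelian 2 V) : ∃ n, Nat.card V = 2 ^ n := by
  haveI := Fact.mk Nat.prime_two
  exact IsPGroup.iff_card.1 (isPGroup_of_elem hV)

end gen

namespace Hyp

variable {G : Type u} [Group G] [Finite G] {r : ℕ} [hr : Fact r.Prime] {S R M : Subgroup G} {e : G}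

/-- an element of odd order of `M` moving `e` -/
theorem odd_mover (h : Hyp r S R M e) {g : G} (hg : g * e * g⁻¹ ∈ S) (hne : g * e * g⁻¹ ≠ e) :
    ∃ m ∈ M, Odd (orderOf m) ∧ m * e * m⁻¹ ≠ e := by
  haveI := Fact.mk Nat.prime_two
  obtain ⟨n, hn, h1⟩ := h.fus h.he hg
  have hnM := h.norm hn
  set C := M ⊓ centralizer ({e} : Set G) with hC
  have hSC : S ≤ C := le_inf h.SM fun s hs => mem_centralizer_singleton_iff.2 (h.hec s hs)
  have h2 : ¬ 2 ∣ C.relIndex M := fun hd => h.sylM.not_dvd_relIndex (hd.trans ⟨S.relIndex C, by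
    rw [mul_comm]; exact (Subgroup.relIndex_mul_relIndex S C M hSC inf_le_left).symm⟩)
  have h3 : C.relIndex M ≠ 1 := by
    rw [Ne, Subgroup.relIndex_eq_one]
    intro h4
    have h5 := mem_centralizer_singleton_iff.1 (h4 hnM).2
    apply hne
    rw [← h1, h5]; group
  obtain ⟨q, hq, hqd⟩ := Nat.exists_prime_and_dvd h3
  haveI := Fact.mk hq
  obtain ⟨Q, hQ⟩ := exists_isSyl q M
  have h4 : ¬ Q ≤ C := fun hle => hQ.not_dvd_relIndex (hqd.trans ⟨Q.relIndex C, by
    rw [mul_comm]; exact (Subgroup.relIndex_mul_relIndex Q C M hle inf_le_left).symm⟩)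
  obtain ⟨m, hmQ, hmC⟩ := SetLike.not_le_iff_exists.1 h4
  refine ⟨m, hQ.le hmQ, ?_, fun h5 => hmC ⟨hQ.le hmQ, ?_⟩⟩
  · obtain ⟨k, hk⟩ := (IsPGroup.iff_orderOf.1 hQ.isPGroup) ⟨m, hmQ⟩
    rw [Subgroup.orderOf_mk] at hk
    rw [hk]
    refine Odd.pow (hq.odd_of_ne_two ?_)
    rintro rfl
    exact h2 hqd
  · change m ∈ centralizer ({e} : Set G)
    rw [mem_centralizer_singleton_iff]
    calc m * e = (m * e * m⁻¹) * m := by group
      _ = e * m := by rw [h5]

theorem sq_ne (h : Hyp r S R M e) {m : G} (ho : Odd (orderOf m)) (hne : m * e * m⁻¹ ≠ e) :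
    (m * m) * e * (m * m)⁻¹ ≠ e ∧ (m * m) * e * (m * m)⁻¹ ≠ m * e * m⁻¹ := by
  constructor
  · intro h1
    apply hne
    have h2 : Commute (m ^ 2) e := by
      change m ^ 2 * e = e * m ^ 2
      rw [pow_two]
      calc m * m * e = ((m * m) * e * (m * m)⁻¹) * (m * m) := by group
        _ = e * (m * m) := by rw [h1]
    obtain ⟨k, hk⟩ := exists_pow_eq_self_of_coprime (n := 2) (x := m)
      ((Nat.coprime_two_right.2 ho).symm)
    have h3 : Commute m e := by rw [← hk]; exact h2.pow_left k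
    rw [h3.eq]; group
  · intro h1
    apply hne
    have e1 : (m * m) * e * (m * m)⁻¹ = m * (m * e * m⁻¹) * m⁻¹ := by group
    rw [e1] at h1
    exact mul_left_cancel (mul_right_cancel h1)

theorem e_ne (h : Hyp r S R M e) : e ≠ 1 := by
  rintro h1
  have := h.he2
  rw [h1, orderOf_one] at this
  norm_num at this

theorem four_set (h : Hyp r S R M e) {m : G} (hm : m ∈ M) (ho : Odd (orderOf m)) (hne : m * e * m⁻¹ ≠ e) :
    4 ≤ Nat.card (E M e) ∧ (Nat.card (E M e) = 4 → ∀ v ∈ E M e, v ≠ 1 → v ∈ D M e) := by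
  classical
  obtain ⟨h1, h2⟩ := h.sq_ne ho hne
  have he1 := h.e_ne
  have hc1 : ∀ x : G, x * e * x⁻¹ ≠ 1 := by
    intro x hx
    apply he1
    calc e = x⁻¹ * (x * e * x⁻¹) * x := by group
      _ = 1 := by rw [hx]; group
  set T : Finset G := {1, e, m * e * m⁻¹, (m * m) * e * (m * m)⁻¹} with hT
  have hTc : T.card = 4 := by
    rw [hT, Finset.card_eq_succ]
    refine ⟨1, {e, m * e * m⁻¹, (m * m) * e * (m * m)⁻¹}, ?_, rfl, ?_⟩
    · simp only [Finset.mem_insert, Finset.mem_singleton, not_or]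
      exact ⟨fun h => he1 h.symm, fun h => hc1 _ h.symm, fun h => hc1 _ h.symm⟩
    · rw [Finset.card_eq_three]
      exact ⟨_, _, _, fun h => hne h.symm, fun h => h1 h.symm, fun h => h2 h.symm, rfl⟩
  have hTE : (T : Set G) ⊆ (E M e : Set G) := by
    intro x hx
    rw [Finset.mem_coe, hT] at hx
    simp only [Finset.mem_insert, Finset.mem_singleton] at hx
    rcases hx with rfl | rfl | rfl | rfl
    · exact one_mem _
    · exact h.e_mem
    · exact h.D_sub ⟨m, hm, rfl⟩
    · exact h.D_sub ⟨m * m, mul_mem hm hm, rfl⟩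
  have hE : Nat.card (E M e) = (E M e : Set G).ncard := rfl
  have h3 : (T : Set G).ncard = 4 := by rw [Set.ncard_coe_finset, hTc]
  constructor
  · rw [hE, ← h3]
    exact Set.ncard_le_ncard hTE (Set.toFinite _)
  · intro h4 v hv hv1
    have h5 : (T : Set G) = (E M e : Set G) := by
      apply Set.eq_of_subset_of_ncard_le hTE _ (Set.toFinite _)
      rw [h3, ← hE, h4]
    have h6 : v ∈ (T : Set G) := by rw [h5]; exact hv
    rw [Finset.mem_coe, hT] at h6
    simp only [Finset.mem_insert, Finset.mem_singleton] at h6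
    rcases h6 with h6 | h6 | h6 | h6
    · exact absurd h6 hv1
    · exact ⟨1, one_mem _, by rw [h6]; group⟩
    · exact ⟨m, hm, h6⟩
    · exact ⟨m * m, mul_mem hm hm, h6⟩

theorem cent_D (h : Hyp r S R M e) {v : G} (hv : v ∈ D M e) : centralizer ({v} : Set G) ≤ M := by
  obtain ⟨m, hm, rfl⟩ := hv
  rw [← cj_centralizer_singleton]
  have := cj_mono (g := m) h.hcen
  rwa [cj_eq_of_mem hm] at this

theorem order_of_mem_E (h : Hyp r S R M e) {v : G} (hv : v ∈ E M e) (h1 : v ≠ 1) : orderOf v = 2 :=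
  orderOf_eq_prime (h.E_sq hv) h1

/-- the group `H₁` -/
theorem exists_H1 (h : Hyp r S R M e) (hloc : ∀ x ∈ S, orderOf x = 2 → R ≤ Cfsg.centralizerPPrimeCore 2 x)
    (h4 : 4 ≤ Nat.card (E M e)) (h4' : Nat.card (E M e) = 4 → ∀ v ∈ E M e, v ≠ 1 → v ∈ D M e) :
    ∃ H1 : Subgroup G, M ≤ H1 ∧ (∀ v ∈ E M e, v ≠ 1 → centralizer ({v} : Set G) ≤ H1) ∧
      ∃ K1 ≤ H1, H1 ≤ normalizer (K1 : Set G) ∧ Odd (Nat.card K1) ∧ R ≤ K1 := by
  haveI := Fact.mk Nat.prime_two
  obtain ⟨K, hK1, hK2, hK3, hK4⟩ := h.core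
  by_cases hc : Nat.card (E M e) = 4
  · exact ⟨M, le_rfl, fun v hv h1 => h.cent_D (h4' hc v hv h1), K, hK1, hK2, hK3, hK4⟩
  · obtain ⟨n, hn⟩ := isPGroup_of_elab h.E_elab
    have h8 : 2 ^ 3 ≤ Nat.card (E M e) := by
      rw [hn] at h4 hc ⊢
      have : 3 ≤ n := by
        by_contra hlt
        have : n ≤ 2 := by omega
        have h5 : 2 ^ n ≤ 2 ^ 2 := Nat.pow_le_pow_right (by norm_num) this
        exact hc (le_antisymm (by simpa using h5) h4)
      exact Nat.pow_le_pow_right (by norm_num) this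
    have hsol : ∀ a ∈ E M e, a ≠ 1 → Group.IsSolvable ↥(centralizer ({a} : Set G)) := fun a ha h1 =>
      h.cent_solvable (h.E_le_S ha) (hloc a (h.E_le_S ha) (h.order_of_mem_E ha h1))
    have hsf := S1279.result 2 (E M e) h.E_elab (by norm_num; exact h4) hsol
    have hcomp : Complete 2 (fun a : G => Cfsg.centralizerPPrimeCore 2 a) (E M e) := by
      refine SigO.complete_two h.E_elab h8 hsf.1.1 hsf.1.2.1 ?_ hsf.1.2.2.2
      intro a ha h1
      exact Bal1.cppc_normal' (fun b hb => mem_centralizer_singleton_iff.2 (h.E_comm hb ha))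
    set W := H32.SFB.W (fun a : G => Cfsg.centralizerPPrimeCore 2 a) (E M e) with hW
    have hMW : M ≤ normalizer (W : Set G) := h.M_norm_E.trans conj_cppc_W
    have hWodd : Odd (Nat.card W) := Nat.not_even_iff_odd.1 fun hev => hcomp.1 hev.two_dvd
    refine ⟨W ⊔ M, le_sup_right, ?_, W ⊔ K, sup_le_sup_left hK1 _, ?_, ?_, hK4.trans le_sup_right⟩
    · intro v hv h1 c hc
      obtain ⟨o, ho, m, hm, -, rfl⟩ := h.cent_fact (h.E_le_S hv) (hloc v (h.E_le_S hv) (h.order_of_mem_E hv h1)) hc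
      exact mul_mem ((le_sup_left : W ≤ W ⊔ M) (le_W hv h1 ho)) ((le_sup_right : M ≤ W ⊔ M) hm)
    · refine sup_le (le_sup_left.trans le_normalizer) ?_
      intro m hm
      rw [mem_normalizer_iff_cj, cj_def, Subgroup.map_sup]
      rw [← cj_def, ← cj_def, mem_normalizer_iff_cj.1 (hMW hm), mem_normalizer_iff_cj.1 (hK2 hm)]
    · rw [sup_comm]
      exact odd_card_sup (hK1.trans hMW) hK3 hWodd

/-- `C(x) ≤ H₁` when `C_E(x)` is not cyclic -/
theorem good_of_large (h : Hyp r S R M e) (hloc : ∀ x ∈ S, orderOf x = 2 → R ≤ Cfsg.centralizerPPrimeCore 2 x)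
    {H1 : Subgroup G} (hM : M ≤ H1) (hE : ∀ v ∈ E M e, v ≠ 1 → centralizer ({v} : Set G) ≤ H1) {x : G}
    (hx : x ∈ S) (hx2 : orderOf x = 2) (h4 : 4 ≤ Nat.card ↥(E M e ⊓ centralizer ({x} : Set G))) :
    centralizer ({x} : Set G) ≤ H1 := by
  haveI := Fact.mk Nat.prime_two
  have h1 : Cfsg.centralizerPPrimeCore 2 x ⊓ H1 = Cfsg.centralizerPPrimeCore 2 x := by
    refine eq_of_fixed_le (A := E M e ⊓ centralizer ({x} : Set G)) (elem_mono h.E_elab inf_le_left)
      (by norm_num; exact h4) (Bal1.cppc_not_dvd x) (Bal1.cppc_normal' inf_le_right) inf_le_left ?_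
    intro a ha h1
    exact inf_le_inf_left _ (hE a ha.1 h1)
  intro c hc
  obtain ⟨o, ho, m, hm, -, rfl⟩ := h.cent_fact hx (hloc x hx hx2) hc
  rw [← h1] at ho
  exact mul_mem ho.2 (hM hm)

end Hyp

end Cfsg.Agent.H30.KW
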