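import Cfsg.Agent.H30.KWB

/-! The 2-local theorem for Kegel--Wielandt, part 3: the strongly embedded subgroup. -/

set_option autoImplicit false
set_option linter.all false

namespace Cfsg.Agent.H30.KW

open Subgroup Cfsg.Agent.SigF Cfsg.Agent.H32.SFB

universe u

section gen
variable {G : Type u} [Group G] [Finite G]

/-- the subgroup generated by the elements of odd order -/
def O2 (G : Type u) [Group G] : Subgroup G := closure {g : G | Odd (orderOf g)}

theorem mem_O2 {g : G} (h : Odd (orderOf g)) : g ∈ O2 G := subset_closure h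

instance O2_normal : (O2 G).Normal := by
  constructor
  intro n hn g
  induction hn using closure_induction with
  | mem x hx =>
    apply mem_O2
    rw [order_conj]; exact hx
  | one => simp
  | mul x y _ _ h1 h2 =>
    have := mul_mem h1 h2
    rwa [conj_mul] at this
  | inv x _ h1 =>
    have := inv_mem h1
    rwa [conj_inv] at this

theorem O2_le_of_index_two {H : Subgroup G} (hH : H.index = 2) : O2 G ≤ H := by
  rw [O2, closure_le]
  intro g hg
  haveI : H.Normal := Subgroup.normal_of_index_eq_two hH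
  have h1 : g ^ 2 ∈ H := by
    have := Subgroup.pow_index_mem H g
    rwa [hH] at this
  obtain ⟨m, hm⟩ := exists_pow_eq_self_of_coprime (n := 2) (x := g) ((Nat.coprime_two_right.2 hg).symm)
  rw [SetLike.mem_coe, ← hm]
  exact pow_mem h1 m

theorem O2_index : ∃ n, (O2 G).index = 2 ^ n := by
  haveI := Fact.mk Nat.prime_two
  have h1 : IsPGroup 2 (G ⧸ O2 G) := by
    intro q
    obtain ⟨g, rfl⟩ := QuotientGroup.mk'_surjective (O2 G) q
    obtain ⟨k, m, hm, hk⟩ := Nat.exists_eq_two_pow_mul_odd (orderOf_pos g).ne'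
    refine ⟨k, ?_⟩
    rw [← map_pow]
    refine (QuotientGroup.eq_one_iff (N := O2 G) (g ^ 2 ^ k)).2 (mem_O2 ?_)
    rw [orderOf_pow_of_dvd (by positivity) (by rw [hk]; exact Dvd.intro _ rfl), hk,
      Nat.mul_div_cancel_left _ (by positivity)]
    exact hm
  rw [Subgroup.index]
  exact IsPGroup.iff_card.1 h1

theorem O2_sup {S : Subgroup G} (hS : ¬ 2 ∣ S.index) : O2 G ⊔ S = ⊤ := by
  rw [← Subgroup.index_eq_one]
  obtain ⟨n, hn⟩ := O2_index (G := G)
  have h1 : (O2 G ⊔ S).index ∣ 2 ^ n := by rw [← hn]; exact Subgroup.index_dvd_of_le le_sup_left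
  obtain ⟨k, hk, hk2⟩ := (Nat.dvd_prime_pow Nat.prime_two).1 h1
  rcases Nat.eq_zero_or_pos k with h | h
  · rw [hk2, h, pow_zero]
  · exfalso
    apply hS
    have h3 : (O2 G ⊔ S).index ∣ S.index := Subgroup.index_dvd_of_le le_sup_right
    rw [hk2] at h3
    exact (dvd_pow_self 2 h.ne').trans h3

theorem isSyl_inf_normal {q : ℕ} [Fact q.Prime] {S N : Subgroup G} [N.Normal] (hS : IsPGroup q S) (hi : ¬ q ∣ S.index) :
    IsSyl q (S ⊓ N) N := by
  refine isSyl_of_not_dvd (hS.to_le inf_le_left) inf_le_right fun hd => hi ?_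
  have h1 := card_sup_mul_inf (H := S) (K := N) (by rw [Subgroup.normalizer_eq_top]; exact le_top)
  have h2 : Nat.card ↥(S ⊓ N) * (S ⊓ N).relIndex N = Nat.card N := by
    have := Subgroup.relIndex_mul_relIndex ⊥ (S ⊓ N) N bot_le inf_le_right
    rwa [Subgroup.relIndex_bot_left, Subgroup.relIndex_bot_left] at this
  have h3 : Nat.card S * S.relIndex (S ⊔ N) = Nat.card ↥(S ⊔ N) := by
    have := Subgroup.relIndex_mul_relIndex ⊥ S (S ⊔ N) bot_le le_sup_left
    rwa [Subgroup.relIndex_bot_left, Subgroup.relIndex_bot_left] at this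
  have h4 : (S ⊓ N).relIndex N = S.relIndex (S ⊔ N) := by
    rw [← h3, ← h2] at h1
    have hpos : 0 < Nat.card S * Nat.card ↥(S ⊓ N) := Nat.mul_pos Nat.card_pos Nat.card_pos
    apply Nat.eq_of_mul_eq_mul_left hpos
    calc Nat.card S * Nat.card ↥(S ⊓ N) * (S ⊓ N).relIndex N
        = Nat.card S * (Nat.card ↥(S ⊓ N) * (S ⊓ N).relIndex N) := by ring
      _ = Nat.card S * S.relIndex (S ⊔ N) * Nat.card ↥(S ⊓ N) := h1.symm
      _ = _ := by ring
  rw [h4] at hd
  exact hd.trans ⟨(S ⊔ N).index, (Subgroup.relIndex_mul_index le_sup_left).symm⟩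

end gen

namespace Hyp

variable {G : Type u} [Group G] [Finite G] {r : ℕ} [hr : Fact r.Prime] {S R M : Subgroup G} {e : G}

theorem four_elts (h : Hyp r S R M e) (h4 : Nat.card (E M e) = 4) :
    ∃ v ∈ E M e, v ≠ 1 ∧ v ≠ e ∧ ∀ w ∈ E M e, w = 1 ∨ w = e ∨ w = v ∨ w = e * v := by
  classical
  have he1 := h.e_ne
  have hE : Nat.card (E M e) = (E M e : Set G).ncard := rfl
  obtain ⟨v, hv, hv1, hve⟩ : ∃ v ∈ E M e, v ≠ 1 ∧ v ≠ e := by
    by_contra hcon
    push Not at hcon
    have h1 : (E M e : Set G) ⊆ (({1, e} : Finset G) : Set G) := by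
      intro w hw
      simp only [Finset.coe_insert, Finset.coe_singleton, Set.mem_insert_iff, Set.mem_singleton_iff]
      by_cases hw1 : w = 1
      · exact Or.inl hw1
      · exact Or.inr (hcon w hw hw1)
    have h2 := Set.ncard_le_ncard h1 (Set.toFinite _)
    rw [← hE, h4, Set.ncard_coe_finset] at h2
    have h3 := Finset.card_le_two (a := (1 : G)) (b := e)
    omega
  refine ⟨v, hv, hv1, hve, ?_⟩
  have hv2 : v * v = 1 := by rw [← pow_two]; exact h.E_sq hv
  have he2 : e * e = 1 := by rw [← pow_two]; exact h.E_sq h.e_mem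
  have hev1 : e * v ≠ 1 := fun h1 => hve (by
    have : e * v = e * e := by rw [h1, he2]
    exact mul_left_cancel this)
  have hev2 : e * v ≠ e := fun h1 => hv1 (mul_eq_left.1 h1)
  have hev3 : e * v ≠ v := fun h1 => he1 (mul_eq_right.1 h1)
  set T : Finset G := {1, e, v, e * v} with hT
  have hTc : T.card = 4 := by
    rw [hT, Finset.card_eq_succ]
    refine ⟨1, {e, v, e * v}, ?_, rfl, ?_⟩
    · simp only [Finset.mem_insert, Finset.mem_singleton, not_or]
      exact ⟨fun h => he1 h.symm, fun h => hv1 h.symm, fun h => hev1 h.symm⟩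
    · rw [Finset.card_eq_three]
      exact ⟨_, _, _, fun h => hve h.symm, fun h => hev2 h.symm, fun h => hev3 h.symm, rfl⟩
  have hTE : (T : Set G) ⊆ (E M e : Set G) := by
    intro x hx
    rw [Finset.mem_coe, hT] at hx
    simp only [Finset.mem_insert, Finset.mem_singleton] at hx
    rcases hx with rfl | rfl | rfl | rfl
    · exact one_mem _
    · exact h.e_mem
    · exact hv
    · exact mul_mem h.e_mem hv
  have h5 : (T : Set G) = (E M e : Set G) := by
    apply Set.eq_of_subset_of_ncard_le hTE _ (Set.toFinite _)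
    rw [← hE, h4, Set.ncard_coe_finset, hTc]
  intro w hw
  have h6 : w ∈ (T : Set G) := by rw [h5]; exact hw
  rw [Finset.mem_coe, hT] at h6
  simpa only [Finset.mem_insert, Finset.mem_singleton] using h6

/-- the centralizer of `E` in `S` has index two if `|E| = 4` and some element moves `E` -/
theorem index_two (h : Hyp r S R M e) (h4 : Nat.card (E M e) = 4) {x : G} (hx : x ∈ S)
    (hxE : x ∉ centralizer (E M e : Set G)) : ((S ⊓ centralizer (E M e : Set G)).subgroupOf S).index = 2 := by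
  obtain ⟨v, hv, hv1, hve, hall⟩ := h.four_elts h4
  have he2 : e * e = 1 := by rw [← pow_two]; exact h.E_sq h.e_mem
  have hconj : ∀ s ∈ S, s * v * s⁻¹ = v ∨ s * v * s⁻¹ = e * v := by
    intro s hs
    have h1 : s * v * s⁻¹ ∈ E M e := (mem_normalizer_iff.1 (h.M_norm_E (h.SM hs)) v).1 hv
    have hse := h.hec s hs
    rcases hall _ h1 with h2 | h2 | h2 | h2
    · exfalso
      apply hv1
      calc v = s⁻¹ * (s * v * s⁻¹) * s := by group
        _ = 1 := by rw [h2]; group
    · exfalso
      apply hve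
      calc v = s⁻¹ * (s * v * s⁻¹) * s := by group
        _ = s⁻¹ * (e * s) := by rw [h2]; group
        _ = e := by rw [← hse]; group
    · exact Or.inl h2
    · exact Or.inr h2
  have hmem : ∀ s ∈ S, (s ∈ centralizer (E M e : Set G) ↔ s * v * s⁻¹ = v) := by
    intro s hs
    constructor
    · intro h1
      have := mem_centralizer_iff.1 h1 v hv
      rw [← this]; group
    · intro h1
      have h2 : v * s = s * v := by
        calc v * s = (s * v * s⁻¹) * s := by rw [h1]
          _ = s * v := by group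
      have h3 : e * s = s * e := (h.hec s hs).symm
      rw [mem_centralizer_iff]
      intro w hw
      rcases hall w hw with rfl | rfl | rfl | rfl
      · simp
      · exact h3
      · exact h2
      · calc e * v * s = e * (v * s) := by group
          _ = (e * s) * v := by rw [h2]; group
          _ = s * (e * v) := by rw [h3]; group
  have hxv : x * v * x⁻¹ = e * v := (hconj x hx).resolve_left fun h1 => hxE ((hmem x hx).2 h1)
  rw [Subgroup.index_eq_two_iff]
  refine ⟨⟨x, hx⟩, ?_⟩
  intro b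
  have hb1 : (b * ⟨x, hx⟩ ∈ (S ⊓ centralizer (E M e : Set G)).subgroupOf S) ↔ (b : G) * x * v * (b * x)⁻¹ = v := by
    rw [Subgroup.mem_subgroupOf]
    change (b : G) * x ∈ S ⊓ centralizer (E M e : Set G) ↔ _
    rw [← hmem _ (mul_mem b.2 hx)]
    exact ⟨fun h => h.2, fun h => ⟨mul_mem b.2 hx, h⟩⟩
  have hb2 : (b ∈ (S ⊓ centralizer (E M e : Set G)).subgroupOf S) ↔ (b : G) * v * (b : G)⁻¹ = v := by
    rw [Subgroup.mem_subgroupOf]
    change (b : G) ∈ S ⊓ centralizer (E M e : Set G) ↔ _
    rw [← hmem _ b.2]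
    exact ⟨fun h => h.2, fun h => ⟨b.2, h⟩⟩
  rw [hb1, hb2]
  have hse := h.hec b b.2
  have e1 : (b : G) * x * v * (b * x)⁻¹ = e * ((b : G) * v * (b : G)⁻¹) := by
    calc (b : G) * x * v * (b * x)⁻¹ = b * (x * v * x⁻¹) * (b : G)⁻¹ := by group
      _ = (b * e) * v * (b : G)⁻¹ := by rw [hxv]; group
      _ = _ := by rw [hse]; group
  rw [e1]
  have hev3 : e * v ≠ v := fun h1 => h.e_ne (mul_eq_right.1 h1)
  rcases hconj b b.2 with h1 | h1
  · rw [h1]
    exact Or.inr ⟨rfl, hev3⟩
  · rw [h1]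
    refine Or.inl ⟨?_, hev3⟩
    rw [← mul_assoc, he2, one_mul]

/-- all involutions of `S ∩ O²(G)` are good -/
theorem good (h : Hyp r S R M e) (hloc : ∀ x ∈ S, orderOf x = 2 → R ≤ Cfsg.centralizerPPrimeCore 2 x)
    {H1 : Subgroup G} (hM : M ≤ H1) (hE : ∀ v ∈ E M e, v ≠ 1 → centralizer ({v} : Set G) ≤ H1)
    (h4 : 4 ≤ Nat.card (E M e)) (h4' : Nat.card (E M e) = 4 → ∀ v ∈ E M e, v ≠ 1 → v ∈ D M e) {x : G}
    (hx : x ∈ S) (hx2 : orderOf x = 2) (hxN : x ∈ O2 G) : centralizer ({x} : Set G) ≤ H1 := by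
  haveI := Fact.mk Nat.prime_two
  by_contra hbad
  have hx22 : x ^ 2 = 1 := by rw [← hx2, pow_orderOf_eq_one]
  have hxE : x ∈ normalizer (E M e : Set G) := h.M_norm_E (h.SM hx)
  have h1 : ¬ 4 ≤ Nat.card ↥(E M e ⊓ centralizer ({x} : Set G)) := fun h5 =>
    hbad (h.good_of_large hloc hM hE hx hx2 h5)
  have h2 := card_le_sq h.E_elab hxE hx22
  obtain ⟨k, hk⟩ := isPGroup_of_elab (elem_mono h.E_elab (inf_le_left : E M e ⊓ centralizer ({x} : Set G) ≤ E M e))
  rw [hk] at h1 h2
  have hk1 : k ≤ 1 := by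
    by_contra hlt
    exact h1 (by
      have : 2 ^ 2 ≤ 2 ^ k := Nat.pow_le_pow_right (by norm_num) (by omega)
      simpa using this)
  have hE4 : Nat.card (E M e) = 4 := by
    apply le_antisymm _ h4
    refine h2.trans ?_
    have : 2 ^ k ≤ 2 ^ 1 := Nat.pow_le_pow_right (by norm_num) hk1
    calc (2 ^ k) ^ 2 ≤ (2 ^ 1) ^ 2 := Nat.pow_le_pow_left this 2
      _ = 4 := by norm_num
  -- the centralizer of `E` in `S`
  set S0 := S ⊓ centralizer (E M e : Set G) with hS0
  have hS0idx : (S0.subgroupOf S).index = 2 := by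
    refine h.index_two hE4 hx fun h5 => h1 ?_
    have h7 : E M e ⊓ centralizer ({x} : Set G) = E M e := by
      apply inf_eq_left.2
      intro v hv
      rw [mem_centralizer_singleton_iff]
      exact mem_centralizer_iff.1 h5 v hv
    rw [← hk, h7]; exact h4
  have hidx : S0.index % 4 = 2 := by
    have h5 : S0.relIndex S * S.index = S0.index := Subgroup.relIndex_mul_index inf_le_left
    rw [Subgroup.relIndex, hS0idx] at h5
    have h6 : S.index % 2 = 1 := by
      have := h.hS2
      omega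
    omega
  have hnc : ∀ g : G, g * x * g⁻¹ ∉ S0 := by
    intro g hg
    obtain ⟨n, hn, h5⟩ := h.fus hx hg.1
    have hy2 : orderOf (g * x * g⁻¹) = 2 := by rw [order_conj, hx2]
    have h6 : centralizer ({g * x * g⁻¹} : Set G) ≤ H1 := by
      refine h.good_of_large hloc hM hE hg.1 hy2 ?_
      have h7 : E M e ⊓ centralizer ({g * x * g⁻¹} : Set G) = E M e := by
        apply inf_eq_left.2
        intro v hv
        rw [mem_centralizer_singleton_iff]
        exact mem_centralizer_iff.1 hg.2 v hv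
      rw [h7]; exact h4
    apply hbad
    rw [← h5, ← cj_centralizer_singleton] at h6
    have h7 := cj_mono (g := n⁻¹) h6
    rw [cj_inv_cj] at h7
    rwa [cj_eq_of_mem (inv_mem (hM (h.norm hn)))] at h7
  obtain ⟨H, hH2, hxH⟩ := H80.thompson_transfer S0 hidx x hx2 hnc
  exact hxH (O2_le_of_index_two hH2 hxN)

end Hyp

end Cfsg.Agent.H30.KW
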