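import Cfsg.Agent.H30.KWC
import Cfsg.Agent.H69.ZStar

/-! The 2-local theorem for Kegel--Wielandt, part 4: the conclusion when all involution centralizers are fine. -/

set_option autoImplicit false
set_option linter.all false

namespace Cfsg.Agent.H30.KW

open Subgroup Cfsg.Agent.SigF Cfsg.Agent.H32.SFB

universe u

namespace Hyp

variable {G : Type u} [Group G] [Finite G] {r : ℕ} [hr : Fact r.Prime] {S R M : Subgroup G} {e : G}

theorem isolated (h : Hyp r S R M e) (hloc : ∀ x ∈ S, orderOf x = 2 → R ≤ Cfsg.centralizerPPrimeCore 2 x)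
    (hiso : ∀ g : G, g * e * g⁻¹ ∈ S → g * e * g⁻¹ = e) : R ≤ Cfsg.pPrimeCore 2 G := by
  haveI := Fact.mk Nat.prime_two
  let P : Sylow 2 G := h.hS.toSylow h.hS2
  have hPS : (P : Subgroup G) = S := rfl
  have hz := H4.zstar_sylow P h.he2 (fun g hg => hiso g hg)
  set O := Cfsg.pPrimeCore 2 G with hO
  have hodd : Odd (Nat.card O) := Nat.coprime_two_right.1 (Solv.pPrimeCore_card_coprime 2)
  have hfr := H69.frattini_involution h.he2 (N := O) hodd hz
  set C := Cfsg.centralizerPPrimeCore 2 e with hC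
  have hCodd : Odd (Nat.card C) := Nat.coprime_two_right.1 (Bal1.cppc_coprime e)
  have hCn : centralizer ({e} : Set G) ≤ normalizer (C : Set G) := Bal1.centralizer_le_normalizer_cppc e
  have hn : (C ⊔ O).Normal := by
    rw [← Subgroup.normalizer_eq_top_iff, eq_top_iff]
    intro g _
    obtain ⟨o, ho, hg⟩ := hfr g
    have h1 : o ∈ normalizer ((C ⊔ O : Subgroup G) : Set G) := le_normalizer ((le_sup_right : O ≤ C ⊔ O) ho)
    have h2 : o⁻¹ * g ∈ normalizer ((C ⊔ O : Subgroup G) : Set G) := by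
      rw [mem_normalizer_iff_cj, cj_def, Subgroup.map_sup, ← cj_def, ← cj_def, mem_normalizer_iff_cj.1 (hCn hg)]
      congr 1
      rw [← mem_normalizer_iff_cj, Subgroup.normalizer_eq_top]
      exact mem_top _
    have := mul_mem h1 h2
    rwa [mul_inv_cancel_left] at this
  have hodd2 : Odd (Nat.card ↥(C ⊔ O)) :=
    odd_card_sup (by rw [Subgroup.normalizer_eq_top]; exact le_top) hCodd hodd
  exact (hloc e h.he h.he2).trans (le_sup_left.trans (Solv.le_pPrimeCore hn (Nat.coprime_two_right.2 hodd2)))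

theorem strong (h : Hyp r S R M e) {H1 : Subgroup G} (hM : M ≤ H1) (htop : H1 ≠ ⊤)
    (hgood : ∀ x ∈ S, orderOf x = 2 → x ∈ O2 G → centralizer ({x} : Set G) ≤ H1)
    {u : G} (hu : u ∈ H1) (huN : u ∈ O2 G) (hu2 : orderOf u = 2) :
    Cfsg.IsStronglyEmbedded (H1.subgroupOf (O2 G)) := by
  haveI := Fact.mk Nat.prime_two
  refine ⟨?_, ?_, ?_⟩
  · intro h1
    rw [Subgroup.subgroupOf_eq_top] at h1
    apply htop
    rw [eq_top_iff, ← O2_sup h.hS2]
    exact sup_le h1 (h.SM.trans hM)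
  · have h1 : orderOf (⟨⟨u, huN⟩, Subgroup.mem_subgroupOf.2 hu⟩ : H1.subgroupOf (O2 G)) = 2 := by
      rw [Subgroup.orderOf_mk, Subgroup.orderOf_mk, hu2]
    rw [even_iff_two_dvd, ← h1]
    exact orderOf_dvd_natCard _
  · intro g hg
    rw [← Nat.not_even_iff_odd]
    intro hev
    obtain ⟨t, ht⟩ := exists_prime_orderOf_dvd_card' 2 hev.two_dvd
    have ht2 : orderOf ((t : O2 G) : G) = 2 := by rw [Subgroup.orderOf_coe, Subgroup.orderOf_coe, ht]
    set t' : G := ((t : O2 G) : G) with ht'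
    have htH : t' ∈ H1 := t.2.1
    have htN : t' ∈ O2 G := (t : O2 G).2
    obtain ⟨s, hs, hst⟩ := t.2.2
    have hs' : (s : G) = (g : G)⁻¹ * t' * g := by
      have h1 : (g : G) * s * (g : G)⁻¹ = t' := congrArg Subtype.val hst
      rw [← h1]; group
    have hsH : (s : G) ∈ H1 := hs
    have hSN : IsSyl 2 (S ⊓ O2 G) (H1 ⊓ O2 G) :=
      (isSyl_inf_normal (N := O2 G) h.hS h.hS2).of_le (inf_le_inf_right _ (h.SM.trans hM)) inf_le_right
    obtain ⟨a, ha, ha1⟩ := exists_conj_mem hSN ⟨htH, htN⟩ (isPGroup_zpowers_of_order_two ht2)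
    have hso : orderOf (s : G) = 2 := by
      have e1 : (s : G) = (g : G)⁻¹ * t' * ((g : G)⁻¹)⁻¹ := by rw [hs', inv_inv]
      rw [e1, order_conj, ht2]
    obtain ⟨b, hb, hb1⟩ := exists_conj_mem hSN ⟨hsH, s.2⟩ (isPGroup_zpowers_of_order_two hso)
    set x := a * t' * a⁻¹ with hx
    have hx2 : orderOf x = 2 := by rw [hx, order_conj, ht2]
    have e2 : b * (s : G) * b⁻¹ = (b * (g : G)⁻¹ * a⁻¹) * x * (b * (g : G)⁻¹ * a⁻¹)⁻¹ := by
      rw [hs', hx]; group
    have hb2 := hb1.1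
    rw [SetLike.mem_coe, e2] at hb2
    obtain ⟨n, hn, hn1⟩ := h.fus ha1.1 hb2
    have hc : n⁻¹ * (b * (g : G)⁻¹ * a⁻¹) ∈ centralizer ({x} : Set G) := by
      rw [mem_centralizer_singleton_iff]
      calc n⁻¹ * (b * (g : G)⁻¹ * a⁻¹) * x
          = n⁻¹ * ((b * (g : G)⁻¹ * a⁻¹) * x * (b * (g : G)⁻¹ * a⁻¹)⁻¹) * (b * (g : G)⁻¹ * a⁻¹) := by group
        _ = n⁻¹ * (n * x * n⁻¹) * (b * (g : G)⁻¹ * a⁻¹) := by rw [hn1]
        _ = x * (n⁻¹ * (b * (g : G)⁻¹ * a⁻¹)) := by group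
    have hcH := hgood x ha1.1 hx2 ha1.2 hc
    have hnH : n ∈ H1 := hM (h.norm hn)
    apply hg
    rw [Subgroup.mem_subgroupOf]
    have h5 : b⁻¹ * n * (n⁻¹ * (b * (g : G)⁻¹ * a⁻¹)) * a ∈ H1 :=
      mul_mem (mul_mem (mul_mem (inv_mem hb.1) hnH) hcH) ha.1
    have e3 : b⁻¹ * n * (n⁻¹ * (b * (g : G)⁻¹ * a⁻¹)) * a = (g : G)⁻¹ := by group
    rw [e3] at h5
    exact (inv_mem_iff (x := (g : G))).1 h5

theorem step2 (h : Hyp r S R M e) (hr2 : r ≠ 2)
    (hloc : ∀ x ∈ S, orderOf x = 2 → R ≤ Cfsg.centralizerPPrimeCore 2 x) : R ≤ Cfsg.pPrimeCore 2 G := by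
  haveI := Fact.mk Nat.prime_two
  by_cases hiso : ∀ g : G, g * e * g⁻¹ ∈ S → g * e * g⁻¹ = e
  · exact h.isolated hloc hiso
  push Not at hiso
  obtain ⟨g, hg, hne⟩ := hiso
  obtain ⟨m, hm, ho, hme⟩ := h.odd_mover hg hne
  obtain ⟨h4, h4'⟩ := h.four_set hm ho hme
  obtain ⟨H1, hMH, hE, K1, hK1, hK1n, hK1o, hRK⟩ := h.exists_H1 hloc h4 h4'
  by_cases htop : H1 = ⊤
  · have hn : K1.Normal := Subgroup.normalizer_eq_top_iff.1 (by rw [eq_top_iff, ← htop]; exact hK1n)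
    exact hRK.trans (Solv.le_pPrimeCore hn (Nat.coprime_two_right.2 hK1o))
  have hgood : ∀ x ∈ S, orderOf x = 2 → x ∈ O2 G → centralizer ({x} : Set G) ≤ H1 := fun x hx hx2 hxN =>
    h.good hloc hMH hE h4 h4' hx hx2 hxN
  -- two commuting involutions in `O²(G)`
  have he2 : e * e = 1 := by rw [← pow_two]; exact h.E_sq h.e_mem
  have hei : e⁻¹ = e := inv_eq_of_mul_eq_one_left he2
  have hmN : m ∈ O2 G := mem_O2 ho
  have hmeE : m * e * m⁻¹ ∈ E M e := h.D_sub ⟨m, hm, rfl⟩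
  set u := e * (m * e * m⁻¹) with hu
  have huE : u ∈ E M e := mul_mem h.e_mem hmeE
  have huN : u ∈ O2 G := by
    have e1 : u = (e * m * e⁻¹) * m⁻¹ := by rw [hu, hei]; group
    rw [e1]
    exact mul_mem (O2_normal.conj_mem m hmN e) (inv_mem hmN)
  have hu1 : u ≠ 1 := by
    intro h1
    apply hme
    have h2 : e * (m * e * m⁻¹) = e * e := by rw [he2]; exact h1
    exact mul_left_cancel h2
  set u' := m * u * m⁻¹ with hu'
  have hu'E : u' ∈ E M e := (mem_normalizer_iff.1 (h.M_norm_E hm) u).1 huE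
  have hu'N : u' ∈ O2 G := O2_normal.conj_mem u huN m
  have hu'1 : u' ≠ 1 := by
    intro h1
    apply hu1
    calc u = m⁻¹ * u' * m := by rw [hu']; group
      _ = 1 := by rw [h1]; group
  have hne' : u' ≠ u := by
    intro h1
    have e1 : u' = (m * e * m⁻¹) * ((m * m) * e * (m * m)⁻¹) := by rw [hu', hu]; group
    have e2 : u = (m * e * m⁻¹) * e := h.E_comm h.e_mem hmeE
    rw [e1, e2] at h1
    exact (h.sq_ne ho hme).1 (mul_left_cancel h1)
  have hu2 : orderOf u = 2 := h.order_of_mem_E huE hu1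
  have hu'2 : orderOf u' = 2 := h.order_of_mem_E hu'E hu'1
  have huH : u ∈ H1 := hMH (h.E_le_M huE)
  have hX := h.strong hMH htop hgood huH huN hu2
  by_cases hO : Cfsg.pPrimeCore 2 (O2 G) ≤ H1.subgroupOf (O2 G)
  · obtain ⟨-, -, h3⟩ := H23.Bend.main hX (BS.num_hyp _) hO
    have hRN : R ≤ O2 G := by
      intro x hx
      apply mem_O2
      obtain ⟨k, hk⟩ := (IsPGroup.iff_orderOf.1 h.hR) ⟨x, hx⟩
      rw [Subgroup.orderOf_mk] at hk
      rw [hk]
      exact Odd.pow (hr.out.odd_of_ne_two hr2)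
    have h5 : K1.subgroupOf (O2 G) ≤ Cfsg.pPrimeCore 2 (O2 G) := by
      refine le_trans ?_ h3
      apply Bal1.le_pPrimeCoreOf
      · intro x hx
        exact hK1 hx
      · intro x hx
        rw [mem_normalizer_iff]
        intro y
        exact mem_normalizer_iff.1 (hK1n hx) (y : G)
      · apply Nat.coprime_two_right.2
        exact hK1o.of_dvd_nat (Subgroup.card_comap_dvd_of_injective K1 (O2 G).subtype (O2 G).subtype_injective)
    intro x hx
    have h6 : (⟨x, hRN hx⟩ : O2 G) ∈ Cfsg.pPrimeCore 2 (O2 G) := h5 (show x ∈ K1 from hRK hx)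
    exact Solv.map_subtype_pPrimeCore_le 2 (O2 G) ⟨_, h6, rfl⟩
  · exfalso
    have h1 := BS.rankOne_of hX hO
    have h2 := (h1 ⟨u, huN⟩ (by rw [Subgroup.orderOf_mk, hu2])).2 ⟨u', hu'N⟩
      (by rw [mem_centralizer_singleton_iff]; exact Subtype.ext (h.E_comm hu'E huE))
      (by rw [Subgroup.orderOf_mk, hu'2])
    exact hne' (congrArg Subtype.val h2)

end Hyp

end Cfsg.Agent.H30.KW
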