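import Cfsg.Agent.H30.KWD

/-! The 2-local theorem for Kegel--Wielandt, part 5: the induction. -/

set_option autoImplicit false
set_option linter.all false

namespace Cfsg.Agent.H30.KW

open Subgroup Cfsg.Agent.SigF Cfsg.Agent.H32.SFB

universe u

section gen
variable {G : Type u} [Group G] [Finite G]

theorem odd_mem_core {X : Type u} [Group X] [Finite X] (Z : Subgroup X) [Z.Normal] (hZ : Nat.card Z = 2)
    (hodd : Odd Z.index) {x : X} (hx : Odd (orderOf x)) : x ∈ Cfsg.pPrimeCore 2 X := by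
  haveI := Fact.mk Nat.prime_two
  obtain ⟨C, hC⟩ := Subgroup.exists_right_complement'_of_coprime (N := Z)
    (by rw [hZ]; exact Nat.coprime_two_left.2 hodd)
  have h1 : C.index = 2 := by rw [← hZ]; exact hC.index_eq_card
  haveI : C.Normal := Subgroup.normal_of_index_eq_two h1
  have h2 : Nat.card C = Z.index := hC.symm.index_eq_card.symm
  have h3 : C ≤ Cfsg.pPrimeCore 2 X := Solv.le_pPrimeCore this (by rw [h2]; exact Nat.coprime_two_right.2 hodd)
  exact h3 (O2_le_of_index_two h1 (mem_O2 hx))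

theorem extremal {q : ℕ} [Fact q.Prime] {S : Subgroup G} (hS : IsPGroup q S) (hi : ¬ q ∣ S.index) {x : G}
    (hx : IsPGroup q (zpowers x)) : ∃ g : G, g * x * g⁻¹ ∈ S ∧
      IsSyl q (S ⊓ centralizer ({g * x * g⁻¹} : Set G)) (centralizer ({g * x * g⁻¹} : Set G)) := by
  obtain ⟨T, hT, hxT⟩ := exists_isSyl_ge (K := centralizer ({x} : Set G)) hx
    (zpowers_le.2 (mem_centralizer_singleton_iff.2 rfl))
  obtain ⟨Q, hQ, hTQ⟩ := exists_isSyl_ge (K := (⊤ : Subgroup G)) hT.isPGroup le_top
  obtain ⟨g, -, hg⟩ := hQ.exists_cj (syl_of_le hS hi (le_top : S ≤ ⊤))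
  have h1 : cj g T ≤ S := by rw [← hg]; exact cj_mono hTQ
  refine ⟨g, h1 (conj_mem_cj (hxT (mem_zpowers x))), ?_⟩
  have h2 : IsSyl q (cj g T) (centralizer ({g * x * g⁻¹} : Set G)) := by
    rw [← cj_centralizer_singleton]; exact hT.cj g
  have h3 := h2.eq_of_le (R := S ⊓ centralizer ({g * x * g⁻¹} : Set G)) (hS.to_le inf_le_left) inf_le_right
    (le_inf h1 h2.le)
  rw [h3]; exact h2

end gen

section quot
variable {G : Type u} [Group G] [Finite G] {r : ℕ} [hr : Fact r.Prime] {S R M : Subgroup G} {e : G}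

theorem mem_zp {y z : G} (hy : orderOf y = 2) (hz : z ∈ zpowers y) : z = 1 ∨ z = y :=
  H69.eq_one_or_eq_of_mem_zpowers hy hz

theorem Hyp.quot (h : Hyp r S R M e) (hr2 : r ≠ 2) {y : G} (hy : y ∈ S) (hy2 : orderOf y = 2)
    (H : Subgroup G) (hH : H = centralizer ({y} : Set G))
    (hT : IsSyl 2 (S ⊓ H) H)
    (hCM : ¬ centralizer ({y} : Set G) ≤ M)
    (Z : Subgroup H) [hZn : Z.Normal]
    (hZ : ∀ z : H, z ∈ Z ↔ (z : G) ∈ zpowers y) (heH : e ∈ H) :
    Hyp r ((S.subgroupOf H).map (QuotientGroup.mk' Z)) ((R.subgroupOf H).map (QuotientGroup.mk' Z))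
      ((M.subgroupOf H).map (QuotientGroup.mk' Z)) (QuotientGroup.mk' Z ⟨e, heH⟩) := by
  haveI := Fact.mk Nat.prime_two
  set π := QuotientGroup.mk' Z with hπ
  have hsurj : Function.Surjective π := QuotientGroup.mk'_surjective Z
  have hyy : y * y = 1 := by rw [← pow_two, ← hy2, pow_orderOf_eq_one]
  have hRH : R ≤ H := hH ▸ h.RC hy
  have hker : ∀ a b : H, π a = π b → (a : G) = b ∨ (a : G) = b * y := by
    intro a b hab
    have h1 : a⁻¹ * b ∈ Z := QuotientGroup.eq.1 hab
    rw [hZ] at h1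
    rcases mem_zp hy2 h1 with h2 | h2
    · left
      have h3 : (a : G)⁻¹ * b = 1 := h2
      exact inv_mul_eq_one.1 h3
    · right
      have h3 : (a : G)⁻¹ * b = y := h2
      have h4 : (b : G) = a * y := by rw [← h3]; group
      rw [h4, mul_assoc, hyy, mul_one]
  have hyM : y ∈ M := h.SM hy
  refine ⟨?_, ?_, ?_, ?_, ?_, ?_, ?_, ?_, ?_, ?_, ?_, ?_, ?_⟩
  · exact (h.hS.comap_of_injective H.subtype H.subtype_injective).map π
  · intro hd
    apply hT.not_dvd_relIndex
    have h1 : ((S.subgroupOf H).map π).index ∣ (S.subgroupOf H).index := Subgroup.index_map_dvd _ hsurj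
    rw [Subgroup.inf_relIndex_right]
    exact hd.trans h1
  · exact (h.hR.comap_of_injective H.subtype H.subtype_injective).map π
  · intro hd
    apply h.hR2
    have h1 : ((R.subgroupOf H).map π).index ∣ (R.subgroupOf H).index := Subgroup.index_map_dvd _ hsurj
    exact (hd.trans h1).trans ⟨H.index, (Subgroup.relIndex_mul_index hRH).symm⟩
  · rintro _ ⟨s, hs, rfl⟩ _ ⟨x, hx, rfl⟩
    rw [← map_mul, ← map_mul]
    congr 1
    exact Subtype.ext (h.comm s hs x hx)
  · haveI := h.solv
    haveI : Group.IsSolvable ↥(M.subgroupOf H) :=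
      Group.isSolvable_of_isSolvable_injective (f := (H.subtype.subgroupComap M)) (by
        intro a b hab
        have h5 : ((a : H) : G) = ((b : H) : G) := congrArg (fun z : M => (z : G)) hab
        exact Subtype.ext (Subtype.ext h5))
    exact Group.isSolvable_of_surjective (f := π.subgroupMap (M.subgroupOf H)) (π.subgroupMap_surjective _)
  · intro q hq
    obtain ⟨c, rfl⟩ := hsurj q
    refine ⟨c, ?_, rfl⟩
    change (c : G) ∈ M
    apply h.norm
    have hN : Odd (Nat.card R) := by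
      obtain ⟨n, hn⟩ := IsPGroup.iff_card.1 h.hR
      rw [hn]; exact Odd.pow (hr.out.odd_of_ne_two hr2)
    have h1 : cj (c : G) R ≤ R := by
      apply le_cj_of
      intro x hx
      have h2 : π c * π ⟨x, hRH hx⟩ * (π c)⁻¹ ∈ (R.subgroupOf H).map π :=
        (mem_normalizer_iff.1 hq _).1 ⟨⟨x, hRH hx⟩, hx, rfl⟩
      rw [← map_mul, ← map_inv, ← map_mul] at h2
      obtain ⟨x', hx', h3⟩ := h2
      rcases hker _ _ h3 with h4 | h4
      · have h5 : (c : G) * x * (c : G)⁻¹ = x' := h4.symm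
        rw [h5]; exact hx'
      · exfalso
        have h5 : (x' : G) = (c : G) * x * (c : G)⁻¹ * y := h4
        have h6 : (c : G) * x * (c : G)⁻¹ = x' * y := by
          rw [h5, mul_assoc ((c : G) * x * (c : G)⁻¹), hyy, mul_one]
        have hRc : ∀ z ∈ R, z ^ Nat.card R = 1 := fun z hz => by
          have := pow_card_eq_one' (G := R) (x := ⟨z, hz⟩)
          exact congrArg Subtype.val this
        have h7 : ((c : G) * x * (c : G)⁻¹) ^ Nat.card R = 1 := by
          rw [conj_pow, hRc x hx]; group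
        have h8 : Commute (x' : G) y := (h.comm y hy x' hx').symm
        have h9 : (x' : G) ^ Nat.card R = 1 := hRc _ hx'
        rw [h6, h8.mul_pow, h9, one_mul] at h7
        obtain ⟨k, hk⟩ := hN
        rw [hk, pow_add, pow_mul, pow_two, hyy, one_pow, one_mul, pow_one] at h7
        rw [h7, orderOf_one] at hy2
        norm_num at hy2
    rw [mem_normalizer_iff_cj]
    exact Subgroup.eq_of_le_of_card_ge h1 (by rw [card_cj])
  · obtain ⟨K, hK1, hK2, hK3, hK4⟩ := h.core
    refine ⟨(K.subgroupOf H).map π, Subgroup.map_mono (fun x hx => hK1 hx), ?_, ?_, Subgroup.map_mono (fun x hx => hK4 hx)⟩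
    · rintro _ ⟨m, hm, rfl⟩
      apply Subgroup.le_normalizer_map
      refine ⟨m, ?_, rfl⟩
      rw [SetLike.mem_coe, mem_normalizer_iff]
      intro x
      exact mem_normalizer_iff.1 (hK2 hm) (x : G)
    · refine hK3.of_dvd_nat ((Subgroup.card_map_dvd _ _).trans ?_)
      exact Subgroup.card_comap_dvd_of_injective K H.subtype H.subtype_injective
  · exact ⟨⟨e, heH⟩, h.he, rfl⟩
  · apply orderOf_eq_prime
    · rw [← map_pow]
      have : (⟨e, heH⟩ : H) ^ 2 = 1 := Subtype.ext (by
        change e ^ 2 = 1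
        rw [← h.he2, pow_orderOf_eq_one])
      rw [this, map_one]
    · intro h1
      have h2 : (⟨e, heH⟩ : H) ∈ Z := (QuotientGroup.eq_one_iff (N := Z) _).1 h1
      rw [hZ] at h2
      rcases mem_zp hy2 h2 with h3 | h3
      · exact h.e_ne h3
      · apply hCM
        have h4 : e = y := h3
        rw [← h4]; exact h.hcen
  · rintro _ ⟨s, hs, rfl⟩
    rw [← map_mul, ← map_mul]
    congr 1
    exact Subtype.ext (h.hec s hs)
  · intro q hq
    obtain ⟨c, rfl⟩ := hsurj q
    refine ⟨c, ?_, rfl⟩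
    change (c : G) ∈ M
    rw [mem_centralizer_singleton_iff, ← map_mul, ← map_mul] at hq
    have hcy : y * (c : G) = c * y := (mem_centralizer_singleton_iff.1 (hH ▸ c.2)).symm
    rcases hker _ _ hq with h1 | h1
    · have h2 : (c : G) * e = e * c := h1
      apply h.hcen
      exact mem_centralizer_singleton_iff.2 h2
    · have h2 : (c : G) * e = e * c * y := h1
      apply h.memM
      have h3 : (c : G) * e * (c : G)⁻¹ = e * y := by
        rw [h2, mul_assoc e, ← hcy]; group
      rw [h3]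
      exact mul_mem h.eM hyM
  · rintro _ ⟨m, hm, rfl⟩
    rw [← map_mul, ← map_inv, ← map_mul, ← map_mul, ← map_mul]
    congr 1
    exact Subtype.ext (h.hcomm m hm)

theorem loc_of_quot {y : G} (hy2 : orderOf y = 2) (hRodd : ∀ x ∈ R, Odd (orderOf x))
    (H : Subgroup G) (hH : H = centralizer ({y} : Set G)) (hRH : R ≤ H)
    (Z : Subgroup H) [hZn : Z.Normal]
    (hZ : ∀ z : H, z ∈ Z ↔ (z : G) ∈ zpowers y)
    (h1 : (R.subgroupOf H).map (QuotientGroup.mk' Z) ≤ Cfsg.pPrimeCore 2 (H ⧸ Z)) :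
    R ≤ (Cfsg.pPrimeCore 2 H).map H.subtype := by
  haveI := Fact.mk Nat.prime_two
  set π := QuotientGroup.mk' Z with hπ
  have hZc : Nat.card Z = 2 := by
    have e : Z.map H.subtype = zpowers y := by
      ext x
      constructor
      · rintro ⟨z, hz, rfl⟩
        exact (hZ z).1 hz
      · intro hx
        have hxH : x ∈ H := hH ▸ (zpowers_le.2 (mem_centralizer_singleton_iff.2 rfl)) hx
        exact ⟨⟨x, hxH⟩, (hZ _).2 hx, rfl⟩
    rw [← Subgroup.card_map_of_injective (K := Z) H.subtype_injective, e, Nat.card_zpowers, hy2]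
  set O' := (Cfsg.pPrimeCore 2 (H ⧸ Z)).comap π with hO'
  have hZO : Z ≤ O' := by
    intro z hz
    rw [hO', Subgroup.mem_comap, show π z = 1 from (QuotientGroup.eq_one_iff (N := Z) z).2 hz]
    exact one_mem _
  haveI : O'.Normal := inferInstance
  have hi : Odd ((Z.subgroupOf O').index) := by
    have h2 : Z.relIndex O' = Nat.card (Cfsg.pPrimeCore 2 (H ⧸ Z)) := by
      have h3 := Subgroup.relIndex_ker (f := π) O'
      rw [hπ, QuotientGroup.ker_mk', ← hπ] at h3
      rw [h3, hO', Subgroup.map_comap_eq_self_of_surjective (QuotientGroup.mk'_surjective Z)]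
    rw [← Subgroup.relIndex, h2]
    exact Nat.coprime_two_right.1 (Solv.pPrimeCore_card_coprime 2)
  intro x hx
  have hxO : (⟨x, hRH hx⟩ : H) ∈ O' := h1 ⟨⟨x, hRH hx⟩, hx, rfl⟩
  have h2 := odd_mem_core (Z.subgroupOf O') (by
      rw [Nat.card_congr (Subgroup.subgroupOfEquivOfLe hZO).toEquiv, hZc]) hi (x := ⟨⟨x, hRH hx⟩, hxO⟩)
    (by rw [Subgroup.orderOf_mk, Subgroup.orderOf_mk]; exact hRodd x hx)
  have h3 := Solv.map_subtype_pPrimeCore_le 2 O' ⟨_, h2, rfl⟩
  exact ⟨⟨x, hRH hx⟩, h3, rfl⟩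

end quot

/-- the 2-local theorem -/
theorem theoremW (n : ℕ) : ∀ (G : Type u) [Group G] [Finite G] (r : ℕ) [Fact r.Prime] (_ : r ≠ 2)
    (S R M : Subgroup G) (e : G), Nat.card G ≤ n → Hyp r S R M e → R ≤ Cfsg.pPrimeCore 2 G := by
  haveI := Fact.mk Nat.prime_two
  induction n with
  | zero =>
    intro G _ _ r _ _ S R M e hn
    have : 0 < Nat.card G := Nat.card_pos
    omega
  | succ n ih =>
    intro G _ _ r hr hr2 S R M e hn h
    apply h.step2 hr2
    intro x hx hx2
    obtain ⟨g, hy, hT⟩ := extremal h.hS h.hS2 (isPGroup_zpowers_of_order_two hx2)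
    obtain ⟨m, hm, hmx⟩ := h.fus hx hy
    set y := g * x * g⁻¹ with hyd
    have hy2 : orderOf y = 2 := by rw [hyd, order_conj, hx2]
    suffices hs : R ≤ Cfsg.centralizerPPrimeCore 2 y by
      rw [← hmx, cppc_conj, ← cj_def] at hs
      rw [← cj_le_cj (g := m), mem_normalizer_iff_cj.1 hm]
      exact hs
    by_cases hCM : centralizer ({y} : Set G) ≤ M
    · obtain ⟨K, hK1, hK2, hK3, hK4⟩ := h.core
      refine (le_inf hK4 (h.RC hy)).trans (Bal1.le_cppc (K := K ⊓ centralizer ({y} : Set G)) inf_le_right ?_ ?_)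
      · intro c hc
        rw [mem_normalizer_iff_cj, cj_inf, mem_normalizer_iff_cj.1 (hK2 (hCM hc)), cj_eq_of_mem hc]
      · exact Nat.coprime_two_right.2 (hK3.of_dvd_nat (Subgroup.card_dvd_of_le inf_le_left))
    · set H := centralizer ({y} : Set G) with hH
      set Z : Subgroup H := (zpowers y).subgroupOf H with hZ
      have hyH : y ∈ H := mem_centralizer_singleton_iff.2 rfl
      haveI hZn : Z.Normal := by
        constructor
        intro z hz c
        rw [hZ, Subgroup.mem_subgroupOf] at hz ⊢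
        change (c : G) * z * (c : G)⁻¹ ∈ zpowers y
        have h1 : (c : G) * z = z * c := by
          obtain ⟨k, hk⟩ := hz
          have h2 : Commute (c : G) y := mem_centralizer_singleton_iff.1 c.2
          have h3 := h2.zpow_right k
          have hk' : y ^ k = (z : G) := hk
          rw [hk'] at h3
          exact h3
        rw [h1, mul_inv_cancel_right]
        exact hz
      have heH : e ∈ H := mem_centralizer_singleton_iff.2 (h.hec y hy).symm
      have hq := h.quot hr2 hy hy2 H hH hT hCM Z (fun z => Iff.rfl) heH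
      have hcard : Nat.card (H ⧸ Z) ≤ n := by
        have h1 : Nat.card Z * Nat.card (H ⧸ Z) = Nat.card H := by
          rw [← Subgroup.index_eq_card]; exact Subgroup.card_mul_index Z
        have h2 : Nat.card H ≤ Nat.card G := Subgroup.card_le_card_group H
        have h3 : Nat.card Z = 2 := by
          rw [hZ, Nat.card_congr (Subgroup.subgroupOfEquivOfLe (zpowers_le.2 hyH)).toEquiv, Nat.card_zpowers, hy2]
        have h4 : 0 < Nat.card (H ⧸ Z) := Nat.card_pos
        rw [h3] at h1
        omega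
      have h5 := ih (H ⧸ Z) r hr2 _ _ _ _ hcard hq
      refine loc_of_quot hy2 ?_ H hH (h.RC hy) Z (fun z => Iff.rfl) h5
      intro a ha
      obtain ⟨k, hk⟩ := (IsPGroup.iff_orderOf.1 h.hR) ⟨a, ha⟩
      rw [Subgroup.orderOf_mk] at hk
      rw [hk]
      exact Odd.pow (hr.out.odd_of_ne_two hr2)

end Cfsg.Agent.H30.KW
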