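import Cfsg.Agent.H30.KWE
import Cfsg.Agent.S0132
import Cfsg.Agent.H49.JC.Odd
import Cfsg.Agent.H25.PuigMain

/-! Kegel--Wielandt, part 6: nilpotent Hall subgroups of solvable groups. -/

set_option autoImplicit false
set_option linter.all false

namespace Cfsg.Agent.H30.KW

open Subgroup Cfsg.Agent.SigF

universe u

section nil
variable {G : Type u} [Group G] [Finite G] {A : Subgroup G}

theorem nil_comm (hA : Group.IsNilpotent A) {x y : G} (hx : x ∈ A) (hy : y ∈ A)
    (h : (orderOf x).Coprime (orderOf y)) : x * y = y * x := by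
  have h1 := S0132.commute_of_coprime (G := A) (x := ⟨x, hx⟩) (y := ⟨y, hy⟩)
    (by rw [Subgroup.orderOf_mk, Subgroup.orderOf_mk]; exact h)
  exact congrArg Subtype.val h1.eq

theorem nil_syl (hA : Group.IsNilpotent A) (q : ℕ) [hq : Fact q.Prime] :
    ∃ P : Subgroup G, IsSyl q P A ∧ A ≤ normalizer (P : Set G) := by
  obtain ⟨S⟩ : Nonempty (Sylow q A) := inferInstance
  have h1 : (S : Subgroup A).Normal := by
    have := (Group.isNilpotent_of_finite_tfae (G := A)).out 0 3 |>.1 hA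
    exact this q hq S
  refine ⟨(S : Subgroup A).map A.subtype, ⟨S, rfl⟩, ?_⟩
  intro a ha
  rw [mem_normalizer_iff]
  intro x
  constructor
  · rintro ⟨s, hs, rfl⟩
    exact ⟨⟨a, ha⟩ * s * ⟨a, ha⟩⁻¹, h1.conj_mem s hs _, rfl⟩
  · rintro ⟨s, hs, hsx⟩
    refine ⟨⟨a, ha⟩⁻¹ * s * ⟨a, ha⟩, ?_, ?_⟩
    · have := h1.conj_mem s hs (⟨a, ha⟩⁻¹)
      rw [inv_inv] at this
      exact this
    · change a⁻¹ * (s : G) * a = x
      have hsx' : (s : G) = a * x * a⁻¹ := hsx
      rw [hsx']; group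

theorem order_of_pgroup {q : ℕ} [hq : Fact q.Prime] {P : Subgroup G} (hP : IsPGroup q P) {x : G} (hx : x ∈ P) :
    ∃ k, orderOf x = q ^ k := by
  obtain ⟨k, hk⟩ := (IsPGroup.iff_orderOf.1 hP) ⟨x, hx⟩
  exact ⟨k, by rwa [Subgroup.orderOf_mk] at hk⟩

theorem pgroups_comm (hA : Group.IsNilpotent A) {p q : ℕ} (hp : p.Prime) (hq : q.Prime) (hpq : p ≠ q)
    {P Q : Subgroup G} (hP : IsPGroup p P) (hQ : IsPGroup q Q) (hPA : P ≤ A) (hQA : Q ≤ A) {x y : G}
    (hx : x ∈ P) (hy : y ∈ Q) : x * y = y * x := by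
  haveI := Fact.mk hp
  haveI := Fact.mk hq
  obtain ⟨k, hk⟩ := order_of_pgroup hP hx
  obtain ⟨l, hl⟩ := order_of_pgroup hQ hy
  apply nil_comm hA (hPA hx) (hQA hy)
  rw [hk, hl]
  exact Nat.Coprime.pow k l ((Nat.coprime_primes hp hq).2 hpq)

theorem syl_index {q : ℕ} [Fact q.Prime] {P : Subgroup G} (hP : IsSyl q P A) (hi : ¬ q ∣ A.index) :
    ¬ q ∣ P.index := by
  rw [← Subgroup.relIndex_mul_index hP.le]
  intro h
  rcases (Nat.Prime.dvd_mul Fact.out).1 h with h1 | h1
  · exact hP.not_dvd_relIndex h1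
  · exact hi h1

theorem coprime_of_prime {a b : ℕ} (h : ∀ q, q.Prime → q ∣ a → q ∣ b → False) : a.Coprime b :=
  Nat.Coprime.symm (Nat.coprime_of_dvd fun q hq h1 h2 => h q hq h2 h1)

end nil

section hall
variable {X : Type u} [Group X] [Finite X] {A : Subgroup X}

theorem pCore_le_hall (hA : Group.IsNilpotent A) (hi : (Nat.card A).Coprime A.index)
    (hcore : ∀ N : Subgroup X, N.Normal → (Nat.card N).Coprime (Nat.card A) → N = ⊥) (q : ℕ) [hq : Fact q.Prime] :
    Cfsg.pCore q X ≤ A := by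
  by_cases hd : q ∣ Nat.card A
  · obtain ⟨P, hP, -⟩ := nil_syl hA q
    have h1 : ¬ q ∣ A.index := fun h2 => hq.out.one_lt.ne' (Nat.dvd_one.1 (hi ▸ Nat.dvd_gcd hd h2))
    have h2 : IsSyl q P ⊤ := syl_of_le hP.isPGroup (syl_index hP h1) le_top
    exact (le_syl_of_normal h2 (Solv.pCore_isPGroup q) le_top (by
      rw [Subgroup.normalizer_eq_top])).trans hP.le
  · rw [hcore (Cfsg.pCore q X) inferInstance ?_]
    · exact bot_le
    · obtain ⟨k, hk⟩ := IsPGroup.iff_card.1 (Solv.pCore_isPGroup (G := X) q)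
      rw [hk]
      exact ((Nat.Prime.coprime_iff_not_dvd hq.out).2 hd).pow_left k

theorem fitting_le_hall (hA : Group.IsNilpotent A) (hi : (Nat.card A).Coprime A.index)
    (hcore : ∀ N : Subgroup X, N.Normal → (Nat.card N).Coprime (Nat.card A) → N = ⊥) :
    Cfsg.fittingSubgroup X ≤ A := by
  rw [Solv.fitting_eq_iSup_pCore]
  refine iSup_le fun q => ?_
  haveI := Fact.mk q.2
  exact pCore_le_hall hA hi hcore q

/-- The normal `{r} ∪ π'`-subgroup containing the Sylow `r`-subgroup of a nilpotent Hall `π`-subgroup of a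
solvable group with `O_{π'}(X) = 1`. -/
theorem exists_normal_part [Group.IsSolvable X] (hA : Group.IsNilpotent A) (hi : (Nat.card A).Coprime A.index)
    (hcore : ∀ N : Subgroup X, N.Normal → (Nat.card N).Coprime (Nat.card A) → N = ⊥) {r : ℕ} [hr : Fact r.Prime]
    {P : Subgroup X} (hP : IsSyl r P A) :
    ∃ K : Subgroup X, K.Normal ∧ P ≤ K ∧ ∀ q : ℕ, q.Prime → q ∣ Nat.card K → q ∣ Nat.card A → q = r := by
  set F := Cfsg.fittingSubgroup X with hF
  have hFA : F ≤ A := fitting_le_hall hA hi hcore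
  set FQ := F ⊓ Cfsg.pPrimeCore r X with hFQ
  have hFQn : FQ.Normal := inferInstance
  have hFQc : (Nat.card FQ).Coprime r :=
    (Solv.pPrimeCore_card_coprime (G := X) r).coprime_dvd_left (Subgroup.card_dvd_of_le inf_le_right)
  have hFQo : ∀ x ∈ FQ, (orderOf x).Coprime r := fun x hx =>
    hFQc.coprime_dvd_left (Subgroup.orderOf_dvd_natCard FQ hx)
  have hrc : ∀ x : X, x ∈ Cfsg.pCore r X → ∃ k, orderOf x = r ^ k := fun x hx =>
    order_of_pgroup (Solv.pCore_isPGroup r) hx
  -- `F = O_r(X) F_Q`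
  have hsup : F ≤ Cfsg.pCore r X ⊔ FQ := by
    rw [hF, Solv.fitting_eq_iSup_pCore]
    refine iSup_le fun q => ?_
    haveI := Fact.mk q.2
    by_cases hqr : (q : ℕ) = r
    · rw [hqr]; exact le_sup_left
    · refine le_trans (le_inf ?_ ?_) le_sup_right
      · exact Solv.pCore_le_fitting (q : ℕ)
      · apply Solv.le_pPrimeCore inferInstance
        obtain ⟨k, hk⟩ := IsPGroup.iff_card.1 (Solv.pCore_isPGroup (G := X) (q : ℕ))
        rw [hk]
        exact ((Nat.coprime_primes q.2 hr.out).2 hqr).pow_left k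
  have hcF : Cfsg.pCore r X ⊔ FQ ≤ F := sup_le (Solv.pCore_le_fitting r) inf_le_left
  -- `r'`-elements of `F` are in `F_Q`
  have hmem : ∀ x ∈ F, (orderOf x).Coprime r → x ∈ FQ := by
    intro x hx ho
    apply H49.JC.mem_of_coprime_relIndex (K := FQ) (H := F) inf_le_left (by
      rw [Subgroup.normalizer_eq_top]; exact le_top) hx
    have h1 : FQ.relIndex F = FQ.relIndex (Cfsg.pCore r X ⊔ FQ) := by rw [le_antisymm hsup hcF]
    rw [h1, Cop.relIndex_sup_eq (by rw [Subgroup.normalizer_eq_top]; exact le_top)]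
    obtain ⟨k, hk⟩ := IsPGroup.iff_card.1 (Solv.pCore_isPGroup (G := X) r)
    have h2 : FQ.relIndex (Cfsg.pCore r X) ∣ r ^ k := by rw [← hk]; exact Subgroup.relIndex_dvd_card _ _
    exact (ho.pow_right k).coprime_dvd_right h2
  set C := centralizer (FQ : Set X) with hC
  have hCn : C.Normal := inferInstance
  set Z := FQ ⊓ C with hZ
  have hZC : Z ≤ C := inf_le_right
  -- `P ≤ C`
  have hPC : P ≤ C := by
    intro x hx
    rw [hC, mem_centralizer_iff]
    intro y hy
    obtain ⟨k, hk⟩ := order_of_pgroup hP.isPGroup hx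
    exact nil_comm hA (hFA hy.1) (hP.le hx) (by rw [hk]; exact (hFQo y hy).pow_right k)
  -- the index of `Z` in `C`
  have hidx : ∀ q : ℕ, q.Prime → q ∣ Z.relIndex C → q ∣ Nat.card A → q = r := by
    intro q hq hqd hqA
    by_contra hqr
    haveI := Fact.mk hq
    obtain ⟨Q, hQ, -⟩ := nil_syl hA q
    have h1 : ¬ q ∣ A.index := fun h2 => hq.one_lt.ne' (Nat.dvd_one.1 (hi ▸ Nat.dvd_gcd hqA h2))
    have h2 : IsSyl q (Q ⊓ C) C := isSyl_inf_normal hQ.isPGroup (syl_index hQ h1)
    have h3 : Q ⊓ C ≤ Z := by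
      intro x hx
      refine ⟨?_, hx.2⟩
      obtain ⟨k, hk⟩ := order_of_pgroup hQ.isPGroup hx.1
      have hxA := hQ.le hx.1
      have h4 : x ∈ centralizer (F : Set X) := by
        have h5 : F ≤ centralizer ({x} : Set X) := by
          refine hsup.trans (sup_le ?_ ?_)
          · intro y hy
            obtain ⟨l, hl⟩ := hrc y hy
            rw [mem_centralizer_singleton_iff]
            exact nil_comm hA (hFA (Solv.pCore_le_fitting r hy)) hxA (by
              rw [hl, hk]; exact Nat.Coprime.pow l k ((Nat.coprime_primes hr.out hq).2 (Ne.symm hqr)))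
          · intro y hy
            rw [mem_centralizer_singleton_iff]
            exact mem_centralizer_iff.1 hx.2 y hy
        rw [mem_centralizer_iff]
        intro y hy
        exact mem_centralizer_singleton_iff.1 (h5 hy)
      apply hmem x (Solv.centralizer_fitting_le h4)
      rw [hk]
      exact ((Nat.coprime_primes hq hr.out).2 hqr).pow_left k
    apply h2.not_dvd_relIndex
    refine hqd.trans ⟨(Q ⊓ C).relIndex Z, ?_⟩
    rw [mul_comm]; exact (Subgroup.relIndex_mul_relIndex _ _ _ h3 hZC).symm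
  have hcop : (Nat.card Z).Coprime (Z.relIndex C) := by
    apply coprime_of_prime
    intro q hq h1 h2
    have h3 : q ∣ Nat.card A := h1.trans (Subgroup.card_dvd_of_le ((inf_le_left.trans inf_le_left).trans hFA))
    have h4 := hidx q hq h2 h3
    have h5 : r ∣ Nat.card FQ := h4 ▸ h1.trans (Subgroup.card_dvd_of_le inf_le_left)
    exact ((Nat.Prime.coprime_iff_not_dvd hr.out).1 hFQc.symm) h5
  haveI hZn : (Z.subgroupOf C).Normal := by
    constructor
    intro z hz c
    rw [Subgroup.mem_subgroupOf] at hz ⊢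
    have h1 : (z : X) * c = c * z := (mem_centralizer_iff.1 c.2) z hz.1
    change (c : X) * z * (c : X)⁻¹ ∈ Z
    rw [← h1, mul_inv_cancel_right]
    exact hz
  obtain ⟨K0, hK0⟩ := Subgroup.exists_right_complement'_of_coprime (N := Z.subgroupOf C) (by
    rw [Nat.card_congr (Subgroup.subgroupOfEquivOfLe hZC).toEquiv]; exact hcop)
  haveI hK0n : K0.Normal := by
    constructor
    intro k hk c
    obtain ⟨⟨⟨z, hz⟩, ⟨k', hk'⟩⟩, hzk⟩ := hK0.surjective c
    have hzk' : z * k' = c := hzk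
    subst hzk'
    have hcen : ∀ d : C, z * d = d * z := by
      intro d
      apply Subtype.ext
      exact (mem_centralizer_iff.1 d.2) z (Subgroup.mem_subgroupOf.1 hz).1
    have e1 : z * k' * k * (z * k')⁻¹ = k' * k * k'⁻¹ := by
      calc z * k' * k * (z * k')⁻¹ = z * (k' * k * k'⁻¹) * z⁻¹ := by group
        _ = k' * k * k'⁻¹ := by rw [hcen]; group
    change z * k' * k * (z * k')⁻¹ ∈ K0
    rw [e1]
    exact mul_mem (mul_mem hk' hk) (inv_mem hk')
  have hK0i : K0.index = Nat.card Z := by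
    rw [hK0.index_eq_card, Nat.card_congr (Subgroup.subgroupOfEquivOfLe hZC).toEquiv]
  have hK0c : Nat.card K0 = Z.relIndex C := hK0.symm.index_eq_card.symm
  have hin : ∀ x : X, ∀ hx : x ∈ C, (orderOf x).Coprime (Nat.card Z) → x ∈ K0.map C.subtype := by
    intro x hx ho
    refine ⟨⟨x, hx⟩, ?_, rfl⟩
    have h1 : (⟨x, hx⟩ : C) ∈ K0 := by
      apply H49.JC.mem_of_coprime_relIndex (K := K0) (H := ⊤) le_top (by
        rw [Subgroup.normalizer_eq_top]) (mem_top _)
      rw [Subgroup.relIndex_top_right, hK0i, Subgroup.orderOf_mk]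
      exact ho
    exact h1
  refine ⟨K0.map C.subtype, ?_, ?_, ?_⟩
  · constructor
    rintro _ ⟨k, hk, rfl⟩ g
    apply hin _ (hCn.conj_mem k k.2 g)
    rw [order_conj]
    have h1 : orderOf (C.subtype k) ∣ Nat.card K0 := by
      change orderOf (k : X) ∣ _
      rw [Subgroup.orderOf_coe]
      exact Subgroup.orderOf_dvd_natCard K0 hk
    rw [hK0c] at h1
    exact hcop.symm.coprime_dvd_left h1
  · intro x hx
    apply hin x (hPC hx)
    obtain ⟨k, hk⟩ := order_of_pgroup hP.isPGroup hx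
    rw [hk]
    apply Nat.Coprime.pow_left
    exact hFQc.symm.coprime_dvd_right (Subgroup.card_dvd_of_le inf_le_left)
  · intro q hq h1 h2
    rw [Subgroup.card_map_of_injective C.subtype_injective, hK0c] at h1
    exact hidx q hq h1 h2

end hall

end Cfsg.Agent.H30.KW
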