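import Cfsg.Agent.H30.KWF
import Cfsg.Agent.S0143

/-! Kegel--Wielandt, part 7: the minimal counterexample. -/

set_option autoImplicit false
set_option linter.all false

namespace Cfsg.Agent.H30.KW

open Subgroup Cfsg.Agent.SigF Cfsg.Agent.H25

universe u

section fac
variable {G : Type u} [Group G] [Finite G] {A B : Subgroup G}

theorem card_eq_of_fac (hcop : (Nat.card A).Coprime (Nat.card B)) (hAB : ∀ g : G, ∃ a ∈ A, ∃ b ∈ B, g = a * b) :
    Nat.card G = Nat.card A * Nat.card B := by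
  rw [← Nat.card_prod]
  refine (Nat.card_congr (Equiv.ofBijective (fun p : A × B => (p.1 : G) * p.2) ⟨?_, ?_⟩)).symm
  · rintro ⟨a, b⟩ ⟨a', b'⟩ h
    have h1 : (a : G) * b = a' * b' := h
    have h2 : (a' : G)⁻¹ * a = b' * (b : G)⁻¹ := by
      calc (a' : G)⁻¹ * a = (a' : G)⁻¹ * (a * b) * (b : G)⁻¹ := by group
        _ = b' * (b : G)⁻¹ := by rw [h1]; group
    have h3 : (a' : G)⁻¹ * a ∈ A ⊓ B := Subgroup.mem_inf.2 ⟨mul_mem (inv_mem a'.2) a.2, by
      rw [h2]; exact mul_mem b'.2 (inv_mem b.2)⟩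
    have h4 : A ⊓ B = ⊥ := (Subgroup.disjoint_of_coprime_natCard hcop).eq_bot
    rw [h4, mem_bot] at h3
    have h5 : (a : G) = a' := (inv_mul_eq_one.1 h3).symm
    rw [h3] at h2
    have h6 : (b : G) = b' := by
      have := h2.symm
      rw [mul_inv_eq_one] at this
      exact this.symm
    exact Prod.ext (Subtype.ext h5) (Subtype.ext h6)
  · intro g
    obtain ⟨a, ha, b, hb, rfl⟩ := hAB g
    exact ⟨(⟨a, ha⟩, ⟨b, hb⟩), rfl⟩

theorem index_of_fac (hcop : (Nat.card A).Coprime (Nat.card B)) (hAB : ∀ g : G, ∃ a ∈ A, ∃ b ∈ B, g = a * b) :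
    A.index = Nat.card B ∧ B.index = Nat.card A := by
  have h := card_eq_of_fac hcop hAB
  constructor
  · apply Nat.eq_of_mul_eq_mul_left (Nat.card_pos : 0 < Nat.card A)
    rw [Subgroup.card_mul_index, h]
  · apply Nat.eq_of_mul_eq_mul_left (Nat.card_pos : 0 < Nat.card B)
    rw [Subgroup.card_mul_index, h, mul_comm]

end fac

structure Cfg (G : Type u) [Group G] (A B : Subgroup G) : Prop where
  simp : IsSimpleGroup G
  nsol : ¬ Group.IsSolvable G
  hA : Group.IsNilpotent A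
  hB : Group.IsNilpotent B
  hcop : (Nat.card A).Coprime (Nat.card B)
  hAB : ∀ g : G, ∃ a ∈ A, ∃ b ∈ B, g = a * b
  hsA : ∀ H : Subgroup G, A ≤ H → H ≠ ⊤ → Group.IsSolvable H
  h2 : 2 ∣ Nat.card A
  hB2 : ∀ q : ℕ, ∃ s : ℕ, s.Prime ∧ s ≠ q ∧ s ∣ Nat.card B

namespace Cfg

variable {G : Type u} [Group G] [Finite G] {A B : Subgroup G}

theorem iA (h : Cfg G A B) : A.index = Nat.card B := (index_of_fac h.hcop h.hAB).1
theorem iB (h : Cfg G A B) : B.index = Nat.card A := (index_of_fac h.hcop h.hAB).2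

theorem not_dvd (h : Cfg G A B) {q : ℕ} (hq : q.Prime) (h1 : q ∣ Nat.card A) (h2 : q ∣ Nat.card B) : False :=
  hq.one_lt.ne' (Nat.dvd_one.1 (h.hcop ▸ Nat.dvd_gcd h1 h2))

theorem normal_case (h : Cfg G A B) {N : Subgroup G} (hN : N.Normal) (h1 : N ≠ ⊥) : N = ⊤ := by
  haveI := h.simp
  exact hN.eq_bot_or_eq_top.resolve_left h1

theorem not_pgroup (h : Cfg G A B) {q : ℕ} [hq : Fact q.Prime] : ¬ IsPGroup q (⊤ : Subgroup G) := by
  intro h1
  apply h.nsol
  haveI : Group.IsNilpotent (⊤ : Subgroup G) := h1.isNilpotent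
  haveI : Group.IsSolvable (⊤ : Subgroup G) := inferInstance
  exact Group.isSolvable_of_surjective (f := (Subgroup.topEquiv (G := G)).toMonoidHom) Subgroup.topEquiv.surjective

/-- F2 -/
theorem F2 (h : Cfg G A B) {X M0 : Subgroup G} (hXB : X ≤ B) (hn : B ≤ normalizer (X : Set G)) (hX : X ≠ ⊥)
    (hM : M0 ≠ ⊤) (hAM : A ≤ M0) : ¬ X ≤ M0 := by
  intro hXM
  have h1 : normalClosure (X : Set G) ≤ M0 := by
    rw [normalClosure, closure_le]
    intro y hy
    obtain ⟨x, hx, hxy⟩ := Group.mem_conjugatesOfSet_iff.1 hy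
    obtain ⟨g, rfl⟩ := isConj_iff.1 hxy
    obtain ⟨a, ha, b, hb, rfl⟩ := h.hAB g
    have e1 : a * b * x * (a * b)⁻¹ = a * (b * x * b⁻¹) * a⁻¹ := by group
    rw [SetLike.mem_coe, e1]
    exact mul_mem (mul_mem (hAM ha) (hXM ((mem_normalizer_iff.1 (hn hb) x).1 hx))) (inv_mem (hAM ha))
  have h2 : normalClosure (X : Set G) ≠ ⊥ := fun h3 => hX (by
    rw [eq_bot_iff, ← h3]; exact subset_normalClosure)
  have h3 := h.normal_case inferInstance h2
  exact hM (top_le_iff.1 (h3 ▸ h1))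

/-- F3 -/
theorem F3 (h : Cfg G A B) {q : ℕ} [hq : Fact q.Prime] (hqA : ¬ q ∣ Nat.card A) {Q : Subgroup G} (hQ : IsPGroup q Q)
    (hQ1 : Q ≠ ⊥) (hn : A ≤ normalizer (Q : Set G)) : False := by
  obtain ⟨Bq, hBq, hBqn⟩ := nil_syl h.hB q
  have h1 : IsSyl q Bq ⊤ := syl_of_le hBq.isPGroup (syl_index hBq (by rw [h.iB]; exact hqA)) le_top
  obtain ⟨Q', hQ', hQQ'⟩ := exists_isSyl_ge (K := (⊤ : Subgroup G)) hQ le_top
  obtain ⟨g, -, hg⟩ := h1.exists_cj hQ'
  obtain ⟨a, ha, b, hb, rfl⟩ := h.hAB g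
  have hQB : Q ≤ Bq := by
    rw [← hg, cj_mul, mem_normalizer_iff_cj.1 (hBqn hb)] at hQQ'
    have h2 := cj_mono (g := a⁻¹) hQQ'
    rw [cj_inv_cj, mem_normalizer_iff_cj.1 (hn (inv_mem ha))] at h2
    exact h2
  obtain ⟨s, hs, hsq, hsB⟩ := h.hB2 q
  haveI := Fact.mk hs
  obtain ⟨Bs, hBs, hBsn⟩ := nil_syl h.hB s
  have hBs1 : Bs ≠ ⊥ := by
    rintro rfl
    apply hBs.not_dvd_relIndex
    rw [Subgroup.relIndex_bot_left]; exact hsB
  have hBsc : Bs ≤ centralizer (Q : Set G) := by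
    intro x hx
    rw [mem_centralizer_iff]
    intro y hy
    exact pgroups_comm h.hB hq.out hs (Ne.symm hsq) hBq.isPGroup hBs.isPGroup hBq.le hBs.le (hQB hy) hx
  refine h.F2 hBs.le hBsn hBs1 (M0 := normalizer (Q : Set G)) ?_ hn (hBsc.trans (centralizer_le_normalizer _))
  intro h2
  have h3 := h.normal_case (Subgroup.normalizer_eq_top_iff.1 h2) hQ1
  rw [h3] at hQ
  exact h.not_pgroup hQ

/-- F4 -/
theorem F4 (h : Cfg G A B) {N : Subgroup G} (hs : Group.IsSolvable N) (hc : (Nat.card N).Coprime (Nat.card A))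
    (hn : A ≤ normalizer (N : Set G)) : N = ⊥ := by
  by_contra hne
  haveI := hs
  haveI : Nontrivial N := (Subgroup.nontrivial_iff_ne_bot N).2 hne
  obtain ⟨q, hq⟩ : ∃ q : Nat.Primes, Cfsg.pCore (q : ℕ) N ≠ ⊥ := by
    by_contra hcon
    push Not at hcon
    have h1 : Cfsg.fittingSubgroup N = ⊥ := by
      rw [Solv.fitting_eq_iSup_pCore]
      exact iSup_eq_bot.2 hcon
    have h2 := Solv.centralizer_fitting_le (G := N)
    rw [h1] at h2
    have h3 : centralizer ((⊥ : Subgroup N) : Set N) = ⊤ := by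
      rw [eq_top_iff]
      intro x _
      rw [mem_centralizer_iff]
      intro y hy
      have : y = 1 := hy
      rw [this]; simp
    rw [h3] at h2
    exact absurd (top_le_iff.1 h2) bot_ne_top
  haveI := Fact.mk q.2
  have h1 : ¬ (q : ℕ) ∣ Nat.card A := by
    intro hd
    have h2 : (q : ℕ) ∣ Nat.card (Cfsg.pCore (q : ℕ) N) := by
      obtain ⟨k, hk⟩ := IsPGroup.iff_card.1 (Solv.pCore_isPGroup (G := N) (q : ℕ))
      rw [hk]
      apply dvd_pow_self
      rintro rfl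
      rw [pow_zero] at hk
      exact hq (Subgroup.card_eq_one.1 hk)
    have h3 : (q : ℕ) ∣ Nat.card N := h2.trans (Subgroup.card_subgroup_dvd_card _)
    exact q.2.one_lt.ne' (Nat.dvd_one.1 (hc ▸ Nat.dvd_gcd h3 hd))
  refine h.F3 h1 (Q := (Cfsg.pCore (q : ℕ) N).map N.subtype) ((Solv.pCore_isPGroup (q : ℕ)).map _) ?_
    (hn.trans (H49.normalizer_le_normalizer_map_of_char _ _))
  intro h4
  exact hq ((Subgroup.map_eq_bot_iff_of_injective _ N.subtype_injective).1 h4)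

theorem hcore (h : Cfg G A B) {H : Subgroup G} (hAH : A ≤ H) (hH : H ≠ ⊤) :
    ∀ N : Subgroup H, N.Normal → (Nat.card N).Coprime (Nat.card (A.subgroupOf H)) → N = ⊥ := by
  intro N hN hc
  haveI := h.hsA H hAH hH
  rw [Nat.card_congr (Subgroup.subgroupOfEquivOfLe hAH).toEquiv] at hc
  have h1 : N.map H.subtype = ⊥ := by
    apply h.F4
    · exact Group.isSolvable_of_surjective (f := (N.equivMapOfInjective H.subtype H.subtype_injective).toMonoidHom)
        (N.equivMapOfInjective H.subtype H.subtype_injective).surjective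
    · rwa [Subgroup.card_map_of_injective H.subtype_injective]
    · intro a ha
      rw [mem_normalizer_iff]
      intro x
      constructor
      · rintro ⟨n, hn, rfl⟩
        exact ⟨_, hN.conj_mem n hn ⟨a, hAH ha⟩, rfl⟩
      · rintro ⟨n, hn, hnx⟩
        refine ⟨_, hN.conj_mem n hn ⟨a⁻¹, inv_mem (hAH ha)⟩, ?_⟩
        have hnx' : (n : G) = a * x * a⁻¹ := hnx
        change a⁻¹ * (n : G) * a⁻¹⁻¹ = x
        rw [hnx']; group
  exact (Subgroup.map_eq_bot_iff_of_injective _ H.subtype_injective).1 h1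

theorem nilH (h : Cfg G A B) {H : Subgroup G} (hAH : A ≤ H) : Group.IsNilpotent (A.subgroupOf H) :=
  haveI := h.hA
  (Group.isNilpotent_congr (Subgroup.subgroupOfEquivOfLe hAH)).2 h.hA

theorem hallH (h : Cfg G A B) {H : Subgroup G} (hAH : A ≤ H) :
    (Nat.card (A.subgroupOf H)).Coprime (A.subgroupOf H).index := by
  rw [Nat.card_congr (Subgroup.subgroupOfEquivOfLe hAH).toEquiv]
  refine h.hcop.coprime_dvd_right ?_
  rw [← h.iA]
  exact ⟨H.index, (Subgroup.relIndex_mul_index hAH).symm⟩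

theorem sylH {r : ℕ} [Fact r.Prime] {P A H : Subgroup G} (hP : IsSyl r P A) (hAH : A ≤ H) :
    IsSyl r (P.subgroupOf H) (A.subgroupOf H) := by
  apply isSyl_of_not_dvd (hP.isPGroup.comap_of_injective H.subtype H.subtype_injective)
  · intro x hx; exact hP.le hx
  · change ¬ r ∣ (P.subgroupOf H).relIndex (A.subgroupOf H)
    rw [Subgroup.relIndex_subgroupOf hAH]
    exact hP.not_dvd_relIndex

/-- F5 -/
theorem F5 (h : Cfg G A B) {H : Subgroup G} (hAH : A ≤ H) (hH : H ≠ ⊤) {r : ℕ} [hr : Fact r.Prime] {P : Subgroup G}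
    (hP : IsSyl r P A) : ∃ K ≤ H, H ≤ normalizer (K : Set G) ∧ P ≤ K ∧
      ∀ q : ℕ, q.Prime → q ∣ Nat.card K → q ∣ Nat.card A → q = r := by
  haveI := h.hsA H hAH hH
  obtain ⟨K, hK, hPK, hq⟩ := exists_normal_part (h.nilH hAH) (h.hallH hAH) (h.hcore hAH hH) (sylH hP hAH)
  refine ⟨K.map H.subtype, Subgroup.map_subtype_le K, ?_, ?_, ?_⟩
  · intro a ha
    rw [mem_normalizer_iff]
    intro x
    constructor
    · rintro ⟨n, hn, rfl⟩
      exact ⟨_, hK.conj_mem n hn ⟨a, ha⟩, rfl⟩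
    · rintro ⟨n, hn, hnx⟩
      refine ⟨_, hK.conj_mem n hn ⟨a⁻¹, inv_mem ha⟩, ?_⟩
      have hnx' : (n : G) = a * x * a⁻¹ := hnx
      change a⁻¹ * (n : G) * a⁻¹⁻¹ = x
      rw [hnx']; group
  · intro x hx
    exact ⟨⟨x, hAH (hP.le hx)⟩, hPK hx, rfl⟩
  · intro q hq' h1 h2
    rw [Subgroup.card_map_of_injective H.subtype_injective] at h1
    exact hq q hq' h1 (by rwa [Nat.card_congr (Subgroup.subgroupOfEquivOfLe hAH).toEquiv])

theorem odd_part (h : Cfg G A B) {r : ℕ} (hr2 : r ≠ 2) {K : Subgroup G}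
    (hq : ∀ q : ℕ, q.Prime → q ∣ Nat.card K → q ∣ Nat.card A → q = r) : Odd (Nat.card K) := by
  rw [← Nat.not_even_iff_odd]
  intro hev
  exact hr2 (hq 2 Nat.prime_two hev.two_dvd h.h2).symm

/-- the functor of Puig, inside `G` -/
def ZL (P : Subgroup G) : Subgroup G := cZ (pUp P)

theorem normalizer_le_ZL (P : Subgroup G) : normalizer (P : Set G) ≤ normalizer (ZL P : Set G) :=
  (normalizer_le_normalizer_pUp P).trans (normalizer_le_normalizer_cZ _)

/-- F6 -/
theorem F6 (h : Cfg G A B) {H : Subgroup G} (hAH : A ≤ H) (hH : H ≠ ⊤) {r : ℕ} [hr : Fact r.Prime] (hr2 : r ≠ 2)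
    {P : Subgroup G} (hP : IsSyl r P A) (hrA : r ∣ Nat.card A) : H ≤ normalizer (ZL P : Set G) := by
  obtain ⟨K, hKH, hKn, hPK, hq⟩ := h.F5 hAH hH hP
  have hodd := h.odd_part hr2 hq
  have hPi : ¬ r ∣ P.index := syl_index hP (by rw [h.iA]; exact fun h1 => h.not_dvd hr.out hrA h1)
  haveI hKs : Group.IsSolvable K := SigO.ft hodd
  have hO : Cfsg.pPrimeCore r K = ⊥ := by
    have h1 : (Cfsg.pPrimeCore r K).map K.subtype = ⊥ := by
      apply h.F4
      · exact Group.isSolvable_of_surjective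
          (f := ((Cfsg.pPrimeCore r K).equivMapOfInjective K.subtype K.subtype_injective).toMonoidHom)
          ((Cfsg.pPrimeCore r K).equivMapOfInjective K.subtype K.subtype_injective).surjective
      · rw [Subgroup.card_map_of_injective K.subtype_injective]
        apply coprime_of_prime
        intro q hq' h1 h2
        have h3 := hq q hq' (h1.trans (Subgroup.card_subgroup_dvd_card _)) h2
        rw [h3] at h1
        have h4 := Solv.pPrimeCore_card_coprime (G := K) r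
        exact hr.out.one_lt.ne' (Nat.dvd_one.1 (h4 ▸ Nat.dvd_gcd h1 dvd_rfl))
      · exact (hAH.trans hKn).trans (H49.normalizer_le_normalizer_map_of_char _ _)
    exact (Subgroup.map_eq_bot_iff_of_injective _ K.subtype_injective).1 h1
  obtain ⟨S, hS⟩ : IsSyl r P K := syl_of_le hP.isPGroup hPi hPK
  have hpuig := puig_center_normal (G := K) hodd hr2 hO S
  have hmap : (cZ (pUp (S : Subgroup K))).map K.subtype = ZL P := by
    rw [map_cZ K.subtype _ (K.subtype_injective.comp (Subgroup.subtype_injective _)),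
      pUp_map_equiv K.subtype K.subtype_injective, hS]
    rfl
  have hKZ : K ≤ normalizer (ZL P : Set G) := by
    rw [← hmap]
    intro a ha
    rw [mem_normalizer_iff]
    intro x
    constructor
    · rintro ⟨n, hn, rfl⟩
      exact ⟨_, hpuig.conj_mem n hn ⟨a, ha⟩, rfl⟩
    · rintro ⟨n, hn, hnx⟩
      refine ⟨_, hpuig.conj_mem n hn ⟨a⁻¹, inv_mem ha⟩, ?_⟩
      have hnx' : (n : G) = a * x * a⁻¹ := hnx
      change a⁻¹ * (n : G) * a⁻¹⁻¹ = x
      rw [hnx']; group
  intro x hx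
  obtain ⟨o, ho, h1⟩ := frattini_elt hP.isPGroup hPi hPK (mem_normalizer_iff_cj.1 (hKn hx))
  have h2 := mul_mem (inv_mem (hKZ ho)) (normalizer_le_ZL P h1)
  rwa [inv_mul_cancel_left] at h2

end Cfg

end Cfsg.Agent.H30.KW
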