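import Cfsg.Agent.H30.KWG

/-! Kegel--Wielandt, part 8: the coprime case. -/

set_option autoImplicit false
set_option linter.all false

namespace Cfsg.Agent.H30.KW

open Subgroup Cfsg.Agent.SigF Cfsg.Agent.H25

universe u

section
variable {G : Type u} [Group G] [Finite G]

theorem exists_center_elt {q : ℕ} [hq : Fact q.Prime] {P : Subgroup G} (hP : IsPGroup q P) (h1 : P ≠ ⊥) :
    ∃ e ∈ P, orderOf e = q ∧ ∀ s ∈ P, s * e = e * s := by
  haveI : Nontrivial P := (Subgroup.nontrivial_iff_ne_bot P).2 h1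
  have h2 := hP.center_nontrivial
  obtain ⟨k, hk⟩ := IsPGroup.iff_card.1 (hP.to_subgroup (center P))
  have h3 : q ∣ Nat.card (center P) := by
    rw [hk]
    apply dvd_pow_self
    rintro rfl
    rw [pow_zero] at hk
    have := Subgroup.card_eq_one.1 hk
    rw [Subgroup.nontrivial_iff_ne_bot] at h2
    exact h2 this
  obtain ⟨z, hz⟩ := exists_prime_orderOf_dvd_card' q h3
  refine ⟨((z : P) : G), (z : P).2, by rw [Subgroup.orderOf_coe, Subgroup.orderOf_coe, hz], ?_⟩
  intro s hs
  have := mem_center_iff.1 z.2 ⟨s, hs⟩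
  exact congrArg Subtype.val this

theorem ZL_ne_bot {q : ℕ} [hq : Fact q.Prime] {P : Subgroup G} (hP : IsPGroup q P) (h1 : P ≠ ⊥) :
    Cfg.ZL P ≠ ⊥ := by
  obtain ⟨e, he, ho, hc⟩ := exists_center_elt hP h1
  have h2 : zpowers e ≤ pUp P := by
    refine (le_pLow_of_abelian (zpowers_le.2 he) inferInstance ?_).trans (pLow_le_pUp P)
    intro s hs
    apply centralizer_le_normalizer
    rw [mem_centralizer_iff]
    rintro _ ⟨k, rfl⟩
    have h3 : Commute s e := hc s hs
    exact (h3.zpow_right k).symm.eq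
  have h3 : e ∈ Cfg.ZL P := by
    refine ⟨h2 (mem_zpowers e), ?_⟩
    change e ∈ centralizer (pUp P : Set G)
    rw [mem_centralizer_iff]
    intro s hs
    exact hc s (pUp_le P hs)
  intro h4
  rw [h4, mem_bot] at h3
  rw [h3, orderOf_one] at ho
  exact hq.out.one_lt.ne ho

/-- a nilpotent Hall subgroup of prime power index in a simple group -/
theorem burnside [hs : IsSimpleGroup G] (hns : ¬ Group.IsSolvable G) {A : Subgroup G} (hA : Group.IsNilpotent A)
    (hA1 : A ≠ ⊥) {q k : ℕ} (hq : q.Prime) (hi : A.index = q ^ k) : False := by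
  haveI : Nontrivial A := (Subgroup.nontrivial_iff_ne_bot A).2 hA1
  obtain ⟨z, hz⟩ : ∃ z : center A, z ≠ 1 := by
    have h1 : center A ≠ ⊥ := Group.IsNilpotent.center_ne_bot _
    rw [← Subgroup.nontrivial_iff_ne_bot] at h1
    exact exists_ne 1
  have hz1 : ((z : A) : G) ≠ 1 := fun h => hz (Subtype.ext (Subtype.ext h))
  have hAC : A ≤ centralizer ({((z : A) : G)} : Set G) := by
    intro a ha
    rw [mem_centralizer_singleton_iff]
    exact congrArg Subtype.val (mem_center_iff.1 z.2 ⟨a, ha⟩)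
  have h1 : (centralizer ({((z : A) : G)} : Set G)).index ∣ q ^ k := hi ▸ Subgroup.index_dvd_of_le hAC
  obtain ⟨j, -, hj⟩ := (Nat.dvd_prime_pow hq).1 h1
  have h2 := S0143.result q j hq _ hz1 hj
  apply hns
  haveI := Fact.mk h2
  haveI := isCyclic_of_prime_card (α := G) rfl
  exact Group.isSolvable_of_comm (IsCyclic.commGroup (α := G)).mul_comm

end

namespace Cfg

variable {G : Type u} [Group G] [Finite G] {A B : Subgroup G}

theorem false_of (h : Cfg G A B) {r : ℕ} (hr : r.Prime) (hr2 : r ≠ 2) (hrA : r ∣ Nat.card A) : False := by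
  haveI := Fact.mk Nat.prime_two
  haveI := Fact.mk hr
  haveI := h.simp
  obtain ⟨S, hS, hSn⟩ := nil_syl h.hA 2
  obtain ⟨P, hP, hPn⟩ := nil_syl h.hA r
  have ne_bot : ∀ {q : ℕ} [Fact q.Prime] {Q : Subgroup G}, IsSyl q Q A → q ∣ Nat.card A → Q ≠ ⊥ := by
    intro q _ Q hQ hd hbot
    apply hQ.not_dvd_relIndex
    rw [hbot, Subgroup.relIndex_bot_left]; exact hd
  have hS1 := ne_bot hS h.h2
  have hP1 := ne_bot hP hrA
  have hSi : ¬ 2 ∣ S.index := syl_index hS (by rw [h.iA]; exact fun h1 => h.not_dvd Nat.prime_two h.h2 h1)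
  have hPi : ¬ r ∣ P.index := syl_index hP (by rw [h.iA]; exact fun h1 => h.not_dvd hr hrA h1)
  obtain ⟨e, he, he2, hec⟩ := exists_center_elt hS.isPGroup hS1
  have hAC : A ≤ centralizer ({e} : Set G) := by
    have h1 : (A ⊓ centralizer ({e} : Set G)).relIndex A = 1 := by
      by_contra hne
      obtain ⟨q, hq, hqd⟩ := Nat.exists_prime_and_dvd hne
      haveI := Fact.mk hq
      have key : ∀ Q : Subgroup G, IsSyl q Q A → Q ≤ centralizer ({e} : Set G) → False := by
        intro Q hQ hQe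
        apply hQ.not_dvd_relIndex
        refine hqd.trans ⟨Q.relIndex (A ⊓ centralizer ({e} : Set G)), ?_⟩
        rw [mul_comm]; exact (Subgroup.relIndex_mul_relIndex _ _ _ (le_inf hQ.le hQe) inf_le_left).symm
      by_cases hq2 : q = 2
      · subst hq2
        exact key S hS fun s hs => mem_centralizer_singleton_iff.2 (hec s hs)
      · obtain ⟨Q, hQ, -⟩ := nil_syl h.hA q
        exact key Q hQ fun s hs => mem_centralizer_singleton_iff.2
          (pgroups_comm h.hA hq Nat.prime_two hq2 hQ.isPGroup hS.isPGroup hQ.le hS.le hs he)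
    rw [Subgroup.relIndex_eq_one] at h1
    exact h1.trans inf_le_right
  have he1 : e ≠ 1 := by
    rintro rfl
    rw [orderOf_one] at he2; norm_num at he2
  have hCe : centralizer ({e} : Set G) ≠ ⊤ := by
    intro h1
    have h2 : (zpowers e).Normal := by
      constructor
      intro n hn g
      have h3 : g ∈ centralizer ({e} : Set G) := by rw [h1]; exact mem_top g
      obtain ⟨k, rfl⟩ := hn
      have h4 : Commute g e := mem_centralizer_singleton_iff.1 h3
      have h5 := (h4.zpow_right k).eq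
      change g * e ^ k * g⁻¹ ∈ zpowers e
      rw [h5, mul_inv_cancel_right]
      exact zpow_mem (mem_zpowers e) k
    have h3 := h.normal_case h2 (by rwa [Ne, zpowers_eq_bot])
    have h4 := isPGroup_zpowers_of_order_two he2
    rw [h3] at h4
    exact h.not_pgroup h4
  set M := normalizer (ZL P : Set G) with hM
  have hAM : A ≤ M := hPn.trans (normalizer_le_ZL P)
  have hMtop : M ≠ ⊤ := by
    intro h1
    have h2 := h.normal_case (Subgroup.normalizer_eq_top_iff.1 h1) (ZL_ne_bot hP.isPGroup hP1)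
    have h3 : IsPGroup r (ZL P) := hP.isPGroup.to_le ((cZ_le _).trans (pUp_le P))
    rw [h2] at h3
    exact h.not_pgroup h3
  haveI hMs := h.hsA M hAM hMtop
  obtain ⟨K, hKM, hKn, hPK, hq⟩ := h.F5 hAM hMtop hP
  have hyp : Hyp r S P M e := by
    refine ⟨hS.isPGroup, hSi, hP.isPGroup, hPi, ?_, hMs, normalizer_le_ZL P, ⟨K, hKM, hKn, h.odd_part hr2 hq, hPK⟩,
      he, he2, hec, ?_, ?_⟩
    · intro s hs x hx
      exact pgroups_comm h.hA Nat.prime_two hr (Ne.symm hr2) hS.isPGroup hP.isPGroup hS.le hP.le hs hx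
    · exact h.F6 hAC hCe hr2 hP hrA
    · intro m hm
      have hF := fitting_le_hall (h.nilH hAM) (h.hallH hAM) (h.hcore hAM hMtop)
      have heM : e ∈ M := hAM (hS.le he)
      have h1 : (⟨e, heM⟩ : M) ∈ centralizer (Cfsg.fittingSubgroup M : Set M) := by
        rw [mem_centralizer_iff]
        intro y hy
        apply Subtype.ext
        exact mem_centralizer_singleton_iff.1 (hAC (hF hy))
      have h2 := Solv.centralizer_fitting_le h1
      have hn : (Cfsg.fittingSubgroup M).Normal := inferInstance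
      have h3 := hn.conj_mem _ h2 ⟨m, hm⟩
      have h4 := mem_centralizer_iff.1 h1 _ h3
      exact (congrArg Subtype.val h4).symm
  have h1 := theoremW (Nat.card G) G r hr2 S P M e le_rfl hyp
  have h2 : Cfsg.pPrimeCore 2 G ≠ ⊥ := fun h3 => hP1 (le_bot_iff.1 (h3 ▸ h1))
  have h3 := h.normal_case inferInstance h2
  have h4 := Solv.pPrimeCore_card_coprime (G := G) 2
  rw [h3, Subgroup.card_top] at h4
  have h5 : 2 ∣ Nat.card G := h.h2.trans (Subgroup.card_subgroup_dvd_card _)
  exact absurd (Nat.dvd_one.1 (h4 ▸ Nat.dvd_gcd h5 dvd_rfl)) (by norm_num)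

end Cfg

section main
variable {G : Type u} [Group G] [Finite G]

theorem solvable_of_nilpotent_subgroup_top {A : Subgroup G} (hA : Group.IsNilpotent A) (h : A = ⊤) :
    Group.IsSolvable G := by
  subst h
  haveI := hA
  haveI : Group.IsSolvable (⊤ : Subgroup G) := inferInstance
  exact Group.isSolvable_of_surjective (f := (Subgroup.topEquiv (G := G)).toMonoidHom) Subgroup.topEquiv.surjective

theorem no_cfg {A B : Subgroup G} (hs : IsSimpleGroup G) (hns : ¬ Group.IsSolvable G) (hA : Group.IsNilpotent A)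
    (hB : Group.IsNilpotent B) (hcop : (Nat.card A).Coprime (Nat.card B))
    (hAB : ∀ g : G, ∃ a ∈ A, ∃ b ∈ B, g = a * b)
    (hsA : ∀ H : Subgroup G, A ≤ H → H ≠ ⊤ → Group.IsSolvable H) (h2 : 2 ∣ Nat.card A) : False := by
  obtain ⟨iA, iB⟩ := index_of_fac hcop hAB
  have hA1 : A ≠ ⊥ := by
    rintro rfl
    rw [Subgroup.card_bot] at h2
    norm_num at h2
  have hB1 : B ≠ ⊥ := by
    rintro rfl
    rw [Subgroup.card_bot, Subgroup.index_eq_one] at iA
    exact hns (solvable_of_nilpotent_subgroup_top hA iA)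
  have ppow : ∀ (n q : ℕ), n ≠ 0 → (∀ s : ℕ, s.Prime → s ∣ n → s = q) → ∃ k, n = q ^ k := fun n q hn h =>
    ⟨_, Nat.eq_prime_pow_of_unique_prime_dvd hn (fun hd hd2 => h _ hd hd2)⟩
  have hB2 : ∀ q : ℕ, ∃ s : ℕ, s.Prime ∧ s ≠ q ∧ s ∣ Nat.card B := by
    intro q
    by_contra hcon
    push Not at hcon
    have h3 : ∀ s : ℕ, s.Prime → s ∣ Nat.card B → s = q := by
      intro s hs hd
      by_contra hne
      exact hcon s hs hne hd
    obtain ⟨k, hk⟩ := ppow _ q Nat.card_pos.ne' h3
    have h4 : Nat.card B ≠ 1 := fun h5 => hB1 (Subgroup.card_eq_one.1 h5)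
    obtain ⟨s, hs', hd⟩ := Nat.exists_prime_and_dvd h4
    have h5 := h3 s hs' hd
    subst h5
    exact burnside hns hA hA1 hs' (iA.trans hk)
  obtain ⟨r, hr, hr2, hrA⟩ : ∃ r : ℕ, r.Prime ∧ r ≠ 2 ∧ r ∣ Nat.card A := by
    by_contra hcon
    push Not at hcon
    have h3 : ∀ s : ℕ, s.Prime → s ∣ Nat.card A → s = 2 := by
      intro s hs hd
      by_contra hne
      exact hcon s hs hne hd
    obtain ⟨k, hk⟩ := ppow _ 2 Nat.card_pos.ne' h3
    exact burnside hns hB hB1 Nat.prime_two (iB.trans hk)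
  exact Cfg.false_of (A := A) (B := B) ⟨hs, hns, hA, hB, hcop, hAB, hsA, h2, hB2⟩ hr hr2 hrA

theorem fac_normal {A B : Subgroup G} (hcop : (Nat.card A).Coprime (Nat.card B))
    (hAB : ∀ g : G, ∃ a ∈ A, ∃ b ∈ B, g = a * b) (N : Subgroup G) [hN : N.Normal] :
    ∀ n ∈ N, ∃ a ∈ A ⊓ N, ∃ b ∈ B ⊓ N, n = a * b := by
  obtain ⟨iA, iB⟩ := index_of_fac hcop hAB
  have key : ∀ C : Subgroup G, ∃ x, x ∣ C.index ∧ Nat.card N = Nat.card ↥(C ⊓ N) * x := by
    intro C
    refine ⟨(C ⊓ N).relIndex N, ?_, ?_⟩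
    · have h1 := card_sup_mul_inf (H := C) (K := N) (by rw [Subgroup.normalizer_eq_top]; exact le_top)
      have h2 : Nat.card ↥(C ⊓ N) * (C ⊓ N).relIndex N = Nat.card N := by
        have := Subgroup.relIndex_mul_relIndex ⊥ (C ⊓ N) N bot_le inf_le_right
        rwa [Subgroup.relIndex_bot_left, Subgroup.relIndex_bot_left] at this
      have h3 : Nat.card C * C.relIndex (C ⊔ N) = Nat.card ↥(C ⊔ N) := by
        have := Subgroup.relIndex_mul_relIndex ⊥ C (C ⊔ N) bot_le le_sup_left
        rwa [Subgroup.relIndex_bot_left, Subgroup.relIndex_bot_left] at this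
      have h4 : (C ⊓ N).relIndex N = C.relIndex (C ⊔ N) := by
        rw [← h3, ← h2] at h1
        have hpos : 0 < Nat.card C * Nat.card ↥(C ⊓ N) := Nat.mul_pos Nat.card_pos Nat.card_pos
        apply Nat.eq_of_mul_eq_mul_left hpos
        calc Nat.card C * Nat.card ↥(C ⊓ N) * (C ⊓ N).relIndex N
            = Nat.card C * (Nat.card ↥(C ⊓ N) * (C ⊓ N).relIndex N) := by ring
          _ = Nat.card C * C.relIndex (C ⊔ N) * Nat.card ↥(C ⊓ N) := h1.symm
          _ = _ := by ring
      rw [h4]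
      exact ⟨(C ⊔ N).index, (Subgroup.relIndex_mul_index le_sup_left).symm⟩
    · have := Subgroup.relIndex_mul_relIndex ⊥ (C ⊓ N) N bot_le inf_le_right
      rw [Subgroup.relIndex_bot_left, Subgroup.relIndex_bot_left] at this
      exact this.symm
  obtain ⟨x, hx, hx2⟩ := key A
  obtain ⟨y, hy, hy2⟩ := key B
  rw [iA] at hx
  rw [iB] at hy
  have h1 : x ∣ Nat.card ↥(B ⊓ N) * y := by rw [← hy2, hx2]; exact Dvd.intro_left _ rfl
  have h2 : x.Coprime y := (hcop.symm.coprime_dvd_left hx).coprime_dvd_right hy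
  have h3 : x ∣ Nat.card ↥(B ⊓ N) := h2.dvd_of_dvd_mul_right h1
  have h4 : Nat.card N ≤ Nat.card (↥(A ⊓ N) × ↥(B ⊓ N)) := by
    rw [Nat.card_prod, hx2]
    exact Nat.mul_le_mul_left _ (Nat.le_of_dvd Nat.card_pos h3)
  have hinj : Function.Injective (fun p : ↥(A ⊓ N) × ↥(B ⊓ N) => (⟨(p.1 : G) * p.2, mul_mem p.1.2.2 p.2.2.2⟩ : N)) := by
    rintro ⟨a, b⟩ ⟨a', b'⟩ h
    have h1 : (a : G) * b = a' * b' := congrArg Subtype.val h
    have h2 : (a' : G)⁻¹ * a = b' * (b : G)⁻¹ := by
      calc (a' : G)⁻¹ * a = (a' : G)⁻¹ * (a * b) * (b : G)⁻¹ := by group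
        _ = b' * (b : G)⁻¹ := by rw [h1]; group
    have h3 : (a' : G)⁻¹ * a ∈ A ⊓ B := Subgroup.mem_inf.2 ⟨mul_mem (inv_mem a'.2.1) a.2.1, by
      rw [h2]; exact mul_mem b'.2.1 (inv_mem b.2.1)⟩
    have h4 : A ⊓ B = ⊥ := (Subgroup.disjoint_of_coprime_natCard hcop).eq_bot
    rw [h4, mem_bot] at h3
    have h5 : (a : G) = a' := (inv_mul_eq_one.1 h3).symm
    rw [h3] at h2
    have h6 : (b : G) = b' := by
      have := h2.symm
      rw [mul_inv_eq_one] at this
      exact this.symm
    exact Prod.ext (Subtype.ext h5) (Subtype.ext h6)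
  have hbij := hinj.bijective_of_nat_card_le h4
  intro n hn
  obtain ⟨⟨a, b⟩, h5⟩ := hbij.2 ⟨n, hn⟩
  exact ⟨a, a.2, b, b.2, (congrArg Subtype.val h5).symm⟩

theorem nil_subgroupOf {A : Subgroup G} (hA : Group.IsNilpotent A) (N : Subgroup G) : Group.IsNilpotent (A.subgroupOf N) := by
  haveI := hA
  exact isNilpotent_of_injective (N.subtype.subgroupComap A) (by
    intro a b hab
    have h5 : ((a : N) : G) = ((b : N) : G) := congrArg (fun z : A => (z : G)) hab
    exact Subtype.ext (Subtype.ext h5))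

end main

theorem solvable_aux (n : ℕ) : ∀ (G : Type u) [Group G] [Finite G] (A B : Subgroup G), Nat.card G ≤ n →
    Group.IsNilpotent A → Group.IsNilpotent B → (Nat.card A).Coprime (Nat.card B) →
    (∀ g : G, ∃ a ∈ A, ∃ b ∈ B, g = a * b) → Group.IsSolvable G := by
  induction n with
  | zero =>
    intro G _ _ A B hn
    have : 0 < Nat.card G := Nat.card_pos
    omega
  | succ n ih =>
    intro G _ _ A B hn hA hB hcop hAB
    by_contra hns
    have hAB' : ∀ g : G, ∃ b ∈ B, ∃ a ∈ A, g = b * a := by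
      intro g
      obtain ⟨a, ha, b, hb, h⟩ := hAB g⁻¹
      exact ⟨b⁻¹, inv_mem hb, a⁻¹, inv_mem ha, by rw [← mul_inv_rev, ← h, inv_inv]⟩
    have hnt : Nontrivial G := by
      by_contra h
      rw [not_nontrivial_iff_subsingleton] at h
      exact hns inferInstance
    have hsub : ∀ (H : Subgroup G), H ≠ ⊤ → Nat.card H ≤ n := by
      intro H hH
      have h1 : Nat.card H < Nat.card G := by
        refine lt_of_le_of_ne (Subgroup.card_le_card_group H) ?_
        intro h2
        exact hH (Subgroup.eq_top_of_card_eq H h2)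
      omega
    have hcd : ∀ (C D : Subgroup G) (H : Subgroup G), (Nat.card C).Coprime (Nat.card D) →
        (Nat.card (C.subgroupOf H)).Coprime (Nat.card (D.subgroupOf H)) := by
      intro C D H h
      exact (h.coprime_dvd_left (Subgroup.card_comap_dvd_of_injective C H.subtype H.subtype_injective)).coprime_dvd_right
        (Subgroup.card_comap_dvd_of_injective D H.subtype H.subtype_injective)
    have hproper : ∀ (C D : Subgroup G), Group.IsNilpotent C → Group.IsNilpotent D → (Nat.card C).Coprime (Nat.card D) →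
        (∀ g : G, ∃ a ∈ C, ∃ b ∈ D, g = a * b) → ∀ H : Subgroup G, C ≤ H → H ≠ ⊤ → Group.IsSolvable H := by
      intro C D hC hD hcd' hCD H hCH hH
      refine ih H (C.subgroupOf H) (D.subgroupOf H) (hsub H hH) (nil_subgroupOf hC H) (nil_subgroupOf hD H)
        (hcd C D H hcd') ?_
      intro g
      obtain ⟨a, ha, b, hb, h⟩ := hCD g
      have hbH : b ∈ H := by
        have : b = a⁻¹ * g := by rw [h]; group
        rw [this]
        exact mul_mem (inv_mem (hCH ha)) g.2
      exact ⟨⟨a, hCH ha⟩, ha, ⟨b, hbH⟩, hb, Subtype.ext h⟩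
    have hs : IsSimpleGroup G := by
      refine ⟨fun N hN => ?_⟩
      by_contra hcon
      push Not at hcon
      obtain ⟨hN1, hN2⟩ := hcon
      apply hns
      have h1 : Group.IsSolvable N := by
        refine ih N (A.subgroupOf N) (B.subgroupOf N) (hsub N hN2) (nil_subgroupOf hA N) (nil_subgroupOf hB N)
          (hcd A B N hcop) ?_
        intro g
        obtain ⟨a, ha, b, hb, h⟩ := fac_normal hcop hAB N g g.2
        exact ⟨⟨a, ha.2⟩, ha.1, ⟨b, hb.2⟩, hb.1, Subtype.ext h⟩
      have h2 : Group.IsSolvable (G ⧸ N) := by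
        have himg : ∀ C : Subgroup G, Group.IsNilpotent C → Group.IsNilpotent (C.map (QuotientGroup.mk' N)) := by
          intro C hC
          haveI := hC
          exact Group.nilpotent_of_surjective ((QuotientGroup.mk' N).subgroupMap C)
            ((QuotientGroup.mk' N).subgroupMap_surjective C)
        refine ih (G ⧸ N) (A.map (QuotientGroup.mk' N)) (B.map (QuotientGroup.mk' N)) ?_ (himg A hA) (himg B hB)
          ((hcop.coprime_dvd_left (Subgroup.card_map_dvd _ _)).coprime_dvd_right (Subgroup.card_map_dvd _ _)) ?_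
        · have h3 : Nat.card N * Nat.card (G ⧸ N) = Nat.card G := by
            rw [← Subgroup.index_eq_card]; exact Subgroup.card_mul_index N
          have h4 : 1 < Nat.card N := by
            by_contra h5
            have h6 : Nat.card N = 1 := le_antisymm (not_lt.1 h5) Nat.card_pos
            exact hN1 (Subgroup.card_eq_one.1 h6)
          have h5 : 0 < Nat.card (G ⧸ N) := Nat.card_pos
          nlinarith
        · intro q
          obtain ⟨g, rfl⟩ := QuotientGroup.mk'_surjective N q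
          obtain ⟨a, ha, b, hb, h⟩ := hAB g
          exact ⟨_, ⟨a, ha, rfl⟩, _, ⟨b, hb, rfl⟩, by rw [← map_mul, ← h]⟩
      exact Group.isSolvable_of_ker_le_range N.subtype (QuotientGroup.mk' N) (by
        rw [QuotientGroup.ker_mk', Subgroup.range_subtype])
    have heven : 2 ∣ Nat.card A * Nat.card B := by
      rw [← card_eq_of_fac hcop hAB]
      by_contra h
      apply hns
      apply SigO.ft
      rw [← Nat.not_even_iff_odd]
      exact fun h1 => h h1.two_dvd
    rcases (Nat.Prime.dvd_mul Nat.prime_two).1 heven with h | h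
    · exact no_cfg hs hns hA hB hcop hAB (hproper A B hA hB hcop hAB) h
    · exact no_cfg hs hns hB hA hcop.symm hAB' (hproper B A hB hA hcop.symm hAB') h

/-- **Wielandt**: a product of two nilpotent groups of coprime orders is solvable -/
theorem wielandt {G : Type u} [Group G] [Finite G] {A B : Subgroup G} (hA : Group.IsNilpotent A)
    (hB : Group.IsNilpotent B) (hcop : (Nat.card A).Coprime (Nat.card B))
    (hAB : ∀ g : G, ∃ a ∈ A, ∃ b ∈ B, g = a * b) : Group.IsSolvable G :=
  solvable_aux (Nat.card G) G A B le_rfl hA hB hcop hAB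

end Cfsg.Agent.H30.KW
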