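import Cfsg.Agent.H30.KWH
import Cfsg.Agent.S0566
import Cfsg.Agent.H50.MulSet

/-! Kegel--Wielandt, part 9: the general case. -/

set_option autoImplicit false
set_option linter.all false

namespace Cfsg.Agent.H30.KW

open Subgroup Cfsg.Agent.SigF
open scoped Pointwise

universe u

section
variable {G : Type u} [Group G]

/-- all products of `P₁` with conjugates of `P₂` are `p`-subgroups -/
def PP (p : ℕ) (P₁ P₂ : Subgroup G) : Prop :=
  ∀ g : G, ∃ S : Subgroup G, IsPGroup p S ∧ ∀ s : G, s ∈ S ↔ ∃ x ∈ P₁, ∃ y ∈ P₂, s = x * (g * y * g⁻¹)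

def CC (P₁ P₂ : Subgroup G) : Prop := ∀ g : G, ∀ x ∈ P₁, ∀ y ∈ P₂, x * (g * y * g⁻¹) = (g * y * g⁻¹) * x

theorem PP.symm {p : ℕ} {P₁ P₂ : Subgroup G} (h : PP p P₁ P₂) : PP p P₂ P₁ := by
  intro g
  obtain ⟨S, hS, h1⟩ := h g⁻¹
  refine ⟨cj g S, isPGroup_cj hS, ?_⟩
  intro s
  rw [mem_cj]
  constructor
  · intro hs
    obtain ⟨x, hx, y, hy, e⟩ := (h1 _).1 (inv_mem hs)
    refine ⟨y⁻¹, inv_mem hy, x⁻¹, inv_mem hx, ?_⟩
    have e2 : s = g * (g⁻¹ * s * g) * g⁻¹ := by group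
    have e3 : g⁻¹ * s * g = (x * (g⁻¹ * y * g⁻¹⁻¹))⁻¹ := by rw [← e, inv_inv]
    rw [e2, e3]; group
  · rintro ⟨y, hy, x, hx, rfl⟩
    have h2 : x⁻¹ * (g⁻¹ * y⁻¹ * g⁻¹⁻¹) ∈ S := (h1 _).2 ⟨x⁻¹, inv_mem hx, y⁻¹, inv_mem hy, rfl⟩
    have h3 := inv_mem h2
    have e : (x⁻¹ * (g⁻¹ * y⁻¹ * g⁻¹⁻¹))⁻¹ = g⁻¹ * (y * (g * x * g⁻¹)) * g := by group
    rwa [e] at h3

theorem CC.symm {P₁ P₂ : Subgroup G} (h : CC P₁ P₂) : CC P₂ P₁ := by
  intro g y hy x hx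
  have h1 := h g⁻¹ x hx y hy
  calc y * (g * x * g⁻¹) = g * ((g⁻¹ * y * g⁻¹⁻¹) * x) * g⁻¹ := by group
    _ = g * (x * (g⁻¹ * y * g⁻¹⁻¹)) * g⁻¹ := by rw [h1]
    _ = g * x * g⁻¹ * y := by group

variable [Finite G]

theorem case1 {p : ℕ} [hp : Fact p.Prime] {P₁ P₂ : Subgroup G} (hP1 : IsPGroup p P₁) (hP2 : IsPGroup p P₂)
    (h : PP p P₁ P₂) (hO : Cfsg.pCore p G = ⊥)
    {K : Subgroup G} [hKn : K.Normal] (h1K : P₁ ≤ K)
    (hK : ∀ g : G, CC (P₁.subgroupOf K) ((cj g P₂).subgroupOf K)) : CC P₁ P₂ := by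
  set D := normalClosure ((P₂ ⊓ K : Subgroup G) : Set G) with hD
  have hDK : D ≤ K := normalClosure_le_normal fun x hx => hx.2
  -- `P₁` centralises `D`
  have h1D : P₁ ≤ centralizer (D : Set G) := by
    intro x hx
    have h2 : D ≤ centralizer ({x} : Set G) := by
      rw [hD, normalClosure, closure_le]
      intro y hy
      obtain ⟨z, hz, hzy⟩ := Group.mem_conjugatesOfSet_iff.1 hy
      obtain ⟨g, rfl⟩ := isConj_iff.1 hzy
      have hgz : g * z * g⁻¹ ∈ K := hKn.conj_mem z hz.2 g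
      have h3 := hK g 1 ⟨x, h1K hx⟩ hx ⟨g * z * g⁻¹, hgz⟩ (conj_mem_cj hz.1)
      have h4 : x * (1 * (g * z * g⁻¹) * 1⁻¹) = (1 * (g * z * g⁻¹) * 1⁻¹) * x := congrArg Subtype.val h3
      rw [one_mul, inv_one, mul_one] at h4
      rw [SetLike.mem_coe, mem_centralizer_singleton_iff]
      exact h4.symm
    rw [mem_centralizer_iff]
    intro y hy
    exact mem_centralizer_singleton_iff.1 (h2 hy)
  set C := centralizer (D : Set G) with hC
  have hDn : D.Normal := normalClosure_normal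
  have hCn : C.Normal := inferInstance
  -- `p`-elements of `D ∩ C` are trivial
  have htriv : ∀ t ∈ D ⊓ C, (∃ k, t ^ p ^ k = 1) → t = 1 := by
    intro t ht htk
    have hcomm : ∀ a ∈ D ⊓ C, ∀ b ∈ D ⊓ C, a * b = b * a := fun a ha b hb =>
      (mem_centralizer_iff.1 hb.2 a ha.1)
    let T : Subgroup G :=
      { carrier := {w | w ∈ D ⊓ C ∧ ∃ k, w ^ p ^ k = 1}
        mul_mem' := by
          rintro a b ⟨ha, k, hk⟩ ⟨hb, l, hl⟩
          refine ⟨mul_mem ha hb, k + l, ?_⟩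
          have hc : Commute a b := hcomm a ha b hb
          rw [hc.mul_pow, pow_add, pow_mul, hk, one_pow, one_mul, mul_comm (p ^ k), pow_mul, hl, one_pow]
        one_mem' := ⟨one_mem _, 0, one_pow _⟩
        inv_mem' := by
          rintro a ⟨ha, k, hk⟩
          exact ⟨inv_mem ha, k, by rw [inv_pow, hk, inv_one]⟩ }
    have hTn : T.Normal := by
      constructor
      rintro w ⟨hw, k, hk⟩ g
      exact ⟨⟨hDn.conj_mem w hw.1 g, hCn.conj_mem w hw.2 g⟩, k, by rw [conj_pow, hk]; group⟩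
    have hTp : IsPGroup p T := by
      rintro ⟨w, hw, k, hk⟩
      exact ⟨k, Subtype.ext hk⟩
    have h5 := Solv.le_pCore hTn hTp
    rw [hO, le_bot_iff] at h5
    have h6 : t ∈ T := ⟨ht, htk⟩
    rw [h5, mem_bot] at h6
    exact h6
  have hpe : ∀ y ∈ P₂, ∃ k, y ^ p ^ k = 1 := by
    intro y hy
    obtain ⟨k, hk⟩ := hP2 ⟨y, hy⟩
    exact ⟨k, congrArg Subtype.val hk⟩
  -- conjugates of `P₂` meet `C ∩ K` trivially
  have hmeet : ∀ g : G, ∀ y ∈ P₂, g * y * g⁻¹ ∈ C → g * y * g⁻¹ ∈ K → g * y * g⁻¹ = 1 := by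
    intro g y hy hyC hyK
    have hyK' : y ∈ K := by
      have := hKn.conj_mem _ hyK g⁻¹
      have e : g⁻¹ * (g * y * g⁻¹) * g⁻¹⁻¹ = y := by group
      rwa [e] at this
    have hyD : g * y * g⁻¹ ∈ D := hDn.conj_mem y (subset_normalClosure ⟨hy, hyK'⟩) g
    obtain ⟨k, hk⟩ := hpe y hy
    exact htriv _ ⟨hyD, hyC⟩ ⟨k, by rw [conj_pow, hk]; group⟩
  -- `P₂^g` normalises `P₁`
  have hnorm : ∀ g : G, ∀ y ∈ P₂, ∀ x ∈ P₁, (g * y * g⁻¹) * x * (g * y * g⁻¹)⁻¹ ∈ P₁ := by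
    intro g y hy x hx
    obtain ⟨S, hS, hS2⟩ := h g
    have hyS : g * y * g⁻¹ ∈ S := (hS2 _).2 ⟨1, one_mem _, y, hy, by group⟩
    have hxS : x ∈ S := (hS2 _).2 ⟨x, hx, 1, one_mem _, by group⟩
    obtain ⟨x', hx', y', hy', e⟩ := (hS2 _).1 (mul_mem (mul_mem hyS hxS) (inv_mem hyS))
    have hC' : (g * y * g⁻¹) * x * (g * y * g⁻¹)⁻¹ ∈ C := hCn.conj_mem x (h1D hx) _
    have hK' : (g * y * g⁻¹) * x * (g * y * g⁻¹)⁻¹ ∈ K := hKn.conj_mem x (h1K hx) _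
    have e2 : g * y' * g⁻¹ = x'⁻¹ * ((g * y * g⁻¹) * x * (g * y * g⁻¹)⁻¹) := by rw [e]; group
    have h5 := hmeet g y' hy' (by rw [e2]; exact mul_mem (inv_mem (h1D hx')) hC')
      (by rw [e2]; exact mul_mem (inv_mem (h1K hx')) hK')
    rw [e, h5, mul_one]
    exact hx'
  set L := normalClosure (P₂ : Set G) with hL
  have hLn : L.Normal := normalClosure_normal
  have hLN : L ≤ normalizer (P₁ : Set G) := by
    rw [hL, normalClosure, closure_le]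
    intro y hy
    obtain ⟨z, hz, hzy⟩ := Group.mem_conjugatesOfSet_iff.1 hy
    obtain ⟨g, rfl⟩ := isConj_iff.1 hzy
    rw [SetLike.mem_coe, mem_normalizer_iff_cj]
    have h5 : cj (g * z * g⁻¹) P₁ ≤ P₁ := le_cj_of fun x hx => hnorm g z hz x hx
    exact Subgroup.eq_of_le_of_card_ge h5 (by rw [card_cj])
  have hint : P₁ ⊓ L = ⊥ := by
    have h5 : ((P₁ ⊓ L).subgroupOf L).Normal := by
      apply (normal_subgroupOf_iff_le_normalizer inf_le_right).2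
      intro l hl
      rw [mem_normalizer_iff_cj, cj_inf, mem_normalizer_iff_cj.1 (hLN hl), cj_eq_of_mem hl]
    have h6 : (P₁ ⊓ L).subgroupOf L ≤ Cfsg.pCore p L :=
      Solv.le_pCore h5 ((hP1.to_le inf_le_left).comap_of_injective L.subtype L.subtype_injective)
    rw [eq_bot_iff]
    intro x hx
    have h7 : x ∈ (Cfsg.pCore p L).map L.subtype := ⟨⟨x, hx.2⟩, h6 hx, rfl⟩
    have h8 := Solv.map_subtype_pCore_le p L h7
    rwa [hO] at h8
  intro g x hx y hy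
  have hyL : g * y * g⁻¹ ∈ L := hLn.conj_mem y (subset_normalClosure hy) g
  have h5 : x * (g * y * g⁻¹) * x⁻¹ * (g * y * g⁻¹)⁻¹ ∈ P₁ ⊓ L := by
    refine Subgroup.mem_inf.2 ⟨?_, mul_mem (hLn.conj_mem _ hyL x) (inv_mem hyL)⟩
    have e : x * (g * y * g⁻¹) * x⁻¹ * (g * y * g⁻¹)⁻¹ = x * ((g * y * g⁻¹) * x⁻¹ * (g * y * g⁻¹)⁻¹) := by group
    rw [e]
    exact mul_mem hx (hnorm g y hy _ (inv_mem hx))
  rw [hint, mem_bot, mul_inv_eq_one, mul_inv_eq_iff_eq_mul] at h5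
  exact h5

end

theorem PP.restrict {G : Type u} [Group G] {p : ℕ} {P₁ P₂ K : Subgroup G} (h : PP p P₁ P₂) (h1K : P₁ ≤ K) (g : G) :
    PP p (P₁.subgroupOf K) ((cj g P₂).subgroupOf K) := by
  intro k
  obtain ⟨S, hS, hS2⟩ := h ((k : G) * g)
  refine ⟨S.subgroupOf K, hS.comap_of_injective K.subtype K.subtype_injective, ?_⟩
  intro s
  constructor
  · intro hs
    obtain ⟨x, hx, y, hy, e⟩ := (hS2 _).1 (show (s : G) ∈ S from hs)
    have e1 : g * y * g⁻¹ = (k : G)⁻¹ * (x⁻¹ * s) * k := by rw [e]; group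
    have hyK : g * y * g⁻¹ ∈ K := by
      rw [e1]
      exact mul_mem (mul_mem (inv_mem k.2) (mul_mem (inv_mem (h1K hx)) s.2)) k.2
    refine ⟨⟨x, h1K hx⟩, hx, ⟨g * y * g⁻¹, hyK⟩, conj_mem_cj hy, Subtype.ext ?_⟩
    change (s : G) = x * (k * (g * y * g⁻¹) * (k : G)⁻¹)
    rw [e]; group
  · rintro ⟨x, hx, y, hy, rfl⟩
    obtain ⟨z, hz, hzy⟩ := (show (y : G) ∈ cj g P₂ from hy)
    have hzy' : g * z * g⁻¹ = y := hzy
    change (x : G) * (k * y * (k : G)⁻¹) ∈ S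
    refine (hS2 _).2 ⟨x, hx, z, hz, ?_⟩
    rw [← hzy']; group

theorem all_comm (n : ℕ) : ∀ (G : Type u) [Group G] [Finite G] (p : ℕ) [Fact p.Prime] (P₁ P₂ : Subgroup G),
    Nat.card G ≤ n → IsPGroup p P₁ → IsPGroup p P₂ → PP p P₁ P₂ → Cfsg.pCore p G = ⊥ → CC P₁ P₂ := by
  induction n with
  | zero =>
    intro G _ _ p _ P₁ P₂ hn
    have : 0 < Nat.card G := Nat.card_pos
    omega
  | succ n ih =>
    intro G _ _ p _ P₁ P₂ hn hP1 hP2 h hO
    by_cases h1 : P₁ = ⊥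
    · intro g x hx y hy
      rw [h1, mem_bot] at hx
      rw [hx]; simp
    by_cases h2 : P₂ = ⊥
    · intro g x hx y hy
      rw [h2, mem_bot] at hy
      rw [hy]; simp
    have hkegel := S0566.result P₁ P₂ h1 h2 (by
      intro g
      obtain ⟨S, hS, hS2⟩ := h g
      refine ⟨S, ?_, ?_⟩
      · rintro rfl
        apply h1
        have h3 : (⊤ : Subgroup G) ≤ Cfsg.pCore p G := Solv.le_pCore inferInstance hS
        rw [hO] at h3
        exact le_bot_iff.1 (le_top.trans h3)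
      · ext s
        rw [SetLike.mem_coe, hS2, Set.mem_mul]
        constructor
        · rintro ⟨x, hx, y, hy, rfl⟩
          exact ⟨x, hx, g * y * g⁻¹, ⟨y, hy, rfl⟩, rfl⟩
        · rintro ⟨x, hx, z, ⟨y, hy, rfl⟩, rfl⟩
          exact ⟨x, hx, y, hy, rfl⟩)
    obtain ⟨K, hKn, hKtop, hK⟩ := hkegel
    have hKc : Nat.card K ≤ n := by
      have h3 : Nat.card K < Nat.card G := by
        refine lt_of_le_of_ne (Subgroup.card_le_card_group K) ?_
        intro h4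
        exact hKtop (Subgroup.eq_top_of_card_eq K h4)
      omega
    have hKO : Cfsg.pCore p K = ⊥ := by
      rw [← Subgroup.map_eq_bot_iff_of_injective _ K.subtype_injective, eq_bot_iff, ← hO]
      exact Solv.map_subtype_pCore_le p K
    have key : ∀ Q₁ Q₂ : Subgroup G, IsPGroup p Q₁ → IsPGroup p Q₂ → PP p Q₁ Q₂ → Q₁ ≤ K → CC Q₁ Q₂ := by
      intro Q₁ Q₂ hQ1 hQ2 hQ hQK
      refine case1 hQ1 hQ2 hQ hO hQK ?_
      intro g
      exact ih K p _ _ hKc (hQ1.comap_of_injective K.subtype K.subtype_injective)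
        ((isPGroup_cj hQ2).comap_of_injective K.subtype K.subtype_injective) (hQ.restrict hQK g) hKO
    rcases hK with hK | hK
    · exact key P₁ P₂ hP1 hP2 h hK
    · exact (key P₂ P₁ hP2 hP1 h.symm hK).symm

end Cfsg.Agent.H30.KW
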