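import Cfsg.Agent.H30.KWI

/-! Kegel--Wielandt, part 10: the general theorem and a consequence. -/

set_option autoImplicit false
set_option linter.all false

namespace Cfsg.Agent.H30.KW

open Subgroup Cfsg.Agent.SigF
open scoped Pointwise

universe u

section
variable {G : Type u} [Group G] [Finite G]

theorem card_syl {q : ℕ} [hq : Fact q.Prime] {Q K : Subgroup G} (h : IsSyl q Q K) :
    Nat.card Q = q ^ (Nat.card K).factorization q := by
  obtain ⟨k, hk⟩ := IsPGroup.iff_card.1 h.isPGroup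
  have h1 : Nat.card Q * Q.relIndex K = Nat.card K := by
    have := Subgroup.relIndex_mul_relIndex ⊥ Q K bot_le h.le
    rwa [Subgroup.relIndex_bot_left, Subgroup.relIndex_bot_left] at this
  have h2 : Q.relIndex K ≠ 0 := by
    intro h3
    rw [h3, mul_zero] at h1
    exact Nat.card_pos.ne h1
  have h4 : (Nat.card K).factorization q = k := by
    rw [← h1, hk, Nat.factorization_mul (pow_ne_zero _ hq.out.ne_zero) h2, Finsupp.add_apply,
      Nat.factorization_eq_zero_of_not_dvd h.not_dvd_relIndex, hq.out.factorization_pow, Finsupp.single_eq_same,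
      add_zero]
  rw [hk, h4]

theorem card_fac {A B : Subgroup G} (hAB : ∀ g : G, ∃ a ∈ A, ∃ b ∈ B, g = a * b) :
    Nat.card A * Nat.card B = Nat.card G * Nat.card ↥(A ⊓ B) := by
  rw [← H50.card_mul_set A B]
  congr 1
  have : (A : Set G) * (B : Set G) = Set.univ := by
    ext g
    simp only [Set.mem_univ, iff_true]
    obtain ⟨a, ha, b, hb, h⟩ := hAB g
    exact ⟨a, ha, b, hb, h.symm⟩
  rw [this]
  exact Nat.card_congr (Equiv.Set.univ G)

theorem nil_syl' {A : Subgroup G} (hA : Group.IsNilpotent A) {q : ℕ} [hq : Fact q.Prime] {P : Subgroup G}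
    (hP : IsSyl q P A) : A ≤ normalizer (P : Set G) := by
  obtain ⟨Q, hQ, hQn⟩ := nil_syl hA q
  obtain ⟨k, hk, hkQ⟩ := hQ.exists_cj hP
  rw [← hkQ, mem_normalizer_iff_cj.1 (hQn hk)]
  exact hQn

/-- the product of the Sylow subgroups of nilpotent factors is a Sylow subgroup -/
theorem syl_fac {A B : Subgroup G} (hA : Group.IsNilpotent A) (hB : Group.IsNilpotent B)
    (hAB : ∀ g : G, ∃ a ∈ A, ∃ b ∈ B, g = a * b) {p : ℕ} [hp : Fact p.Prime] {P₁ P₂ : Subgroup G}
    (h1 : IsSyl p P₁ A) (h2 : IsSyl p P₂ B) : PP p P₁ P₂ := by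
  have n1 := nil_syl' hA h1
  have n2 := nil_syl' hB h2
  obtain ⟨T1, hT1, hPT1⟩ := exists_isSyl_ge (K := (⊤ : Subgroup G)) h1.isPGroup le_top
  obtain ⟨T2, hT2, hPT2⟩ := exists_isSyl_ge (K := (⊤ : Subgroup G)) h2.isPGroup le_top
  obtain ⟨x, -, hx⟩ := hT1.exists_cj hT2
  obtain ⟨a, ha, b, hb, hab⟩ := hAB x⁻¹
  -- `x = b⁻¹ a⁻¹`
  have hx' : x = b⁻¹ * a⁻¹ := by rw [← mul_inv_rev, ← hab, inv_inv]
  set T := cj a⁻¹ T1 with hT
  have hTs : IsSyl p T ⊤ := by
    have := hT1.cj a⁻¹
    rwa [cj_eq_of_mem (mem_top _)] at this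
  have hP1 : P₁ ≤ T := by
    rw [hT, ← mem_normalizer_iff_cj.1 (n1 (inv_mem ha))]
    exact cj_mono hPT1
  have hP2 : P₂ ≤ T := by
    have e : T = cj b T2 := by
      rw [← hx, hx', ← cj_mul, mul_inv_cancel_left]
    rw [e, ← mem_normalizer_iff_cj.1 (n2 hb)]
    exact cj_mono hPT2
  have hcard : Nat.card T * Nat.card ↥(P₁ ⊓ P₂) ≤ Nat.card P₁ * Nat.card P₂ := by
    have hf : (Nat.card A * Nat.card B).factorization p = (Nat.card G * Nat.card ↥(A ⊓ B)).factorization p := by
      rw [card_fac hAB]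
    rw [Nat.factorization_mul Nat.card_pos.ne' Nat.card_pos.ne',
      Nat.factorization_mul Nat.card_pos.ne' Nat.card_pos.ne', Finsupp.add_apply, Finsupp.add_apply] at hf
    have hc : Nat.card ↥(P₁ ⊓ P₂) ≤ p ^ (Nat.card ↥(A ⊓ B)).factorization p := by
      obtain ⟨Q, hQ, hPQ⟩ := exists_isSyl_ge (K := A ⊓ B) (h1.isPGroup.to_le (inf_le_left : P₁ ⊓ P₂ ≤ P₁))
        (inf_le_inf h1.le h2.le)
      rw [← card_syl hQ]
      exact Subgroup.card_le_of_le hPQ
    have hTc := card_syl hTs
    rw [Subgroup.card_top] at hTc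
    rw [hTc, card_syl h1, card_syl h2, ← pow_add, hf, pow_add]
    exact Nat.mul_le_mul_left _ hc
  obtain ⟨h3, h4⟩ := H50.eq_sup_of_card hP1 hP2 hcard
  rw [← h3] at h4
  have hmem : ∀ s : G, s ∈ T ↔ ∃ x ∈ P₁, ∃ y ∈ P₂, s = x * y := by
    intro s
    have : s ∈ (T : Set G) ↔ s ∈ (P₁ : Set G) * (P₂ : Set G) := by rw [h4]
    rw [SetLike.mem_coe, Set.mem_mul] at this
    rw [this]
    constructor
    · rintro ⟨x, hx, y, hy, e⟩
      exact ⟨x, hx, y, hy, e.symm⟩
    · rintro ⟨x, hx, y, hy, e⟩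
      exact ⟨x, hx, y, hy, e.symm⟩
  intro g
  obtain ⟨a', ha', b', hb', hg⟩ := hAB g
  refine ⟨cj a' T, isPGroup_cj hTs.isPGroup, ?_⟩
  intro s
  rw [mem_cj, hmem]
  constructor
  · rintro ⟨x, hx, y, hy, e⟩
    refine ⟨a' * x * a'⁻¹, (mem_normalizer_iff.1 (n1 ha') x).1 hx, b'⁻¹ * y * b'⁻¹⁻¹,
      (mem_normalizer_iff.1 (n2 (inv_mem hb')) y).1 hy, ?_⟩
    have e2 : s = a' * (a'⁻¹ * s * a') * a'⁻¹ := by group
    rw [e2, e, hg]; group
  · rintro ⟨x, hx, y, hy, e⟩
    refine ⟨a'⁻¹ * x * a'⁻¹⁻¹, (mem_normalizer_iff.1 (n1 (inv_mem ha')) x).1 hx, b' * y * b'⁻¹,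
      (mem_normalizer_iff.1 (n2 hb') y).1 hy, ?_⟩
    rw [e, hg]; group

theorem solvable_of_quot (N : Subgroup G) [N.Normal] (h1 : Group.IsSolvable N)
    (h2 : Group.IsSolvable (G ⧸ N)) : Group.IsSolvable G :=
  Group.isSolvable_of_ker_le_range N.subtype (QuotientGroup.mk' N) (by
    rw [QuotientGroup.ker_mk', Subgroup.range_subtype])

theorem nil_map {A : Subgroup G} (hA : Group.IsNilpotent A) (N : Subgroup G) [N.Normal] :
    Group.IsNilpotent (A.map (QuotientGroup.mk' N)) := by
  haveI := hA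
  exact Group.nilpotent_of_surjective ((QuotientGroup.mk' N).subgroupMap A)
    ((QuotientGroup.mk' N).subgroupMap_surjective A)

theorem fac_map {A B : Subgroup G} (hAB : ∀ g : G, ∃ a ∈ A, ∃ b ∈ B, g = a * b) (N : Subgroup G) [N.Normal] :
    ∀ g : G ⧸ N, ∃ a ∈ A.map (QuotientGroup.mk' N), ∃ b ∈ B.map (QuotientGroup.mk' N), g = a * b := by
  intro q
  obtain ⟨g, rfl⟩ := QuotientGroup.mk'_surjective N q
  obtain ⟨a, ha, b, hb, h⟩ := hAB g
  exact ⟨_, ⟨a, ha, rfl⟩, _, ⟨b, hb, rfl⟩, by rw [← map_mul, ← h]⟩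

theorem card_quot_lt (N : Subgroup G) [N.Normal] (hN : N ≠ ⊥) : Nat.card (G ⧸ N) < Nat.card G := by
  have h3 : Nat.card N * Nat.card (G ⧸ N) = Nat.card G := by
    rw [← Subgroup.index_eq_card]; exact Subgroup.card_mul_index N
  have h4 : 1 < Nat.card N := by
    by_contra h5
    have h6 : Nat.card N = 1 := le_antisymm (not_lt.1 h5) Nat.card_pos
    exact hN (Subgroup.card_eq_one.1 h6)
  have h5 : 0 < Nat.card (G ⧸ N) := Nat.card_pos
  nlinarith

end

theorem kw_aux (n : ℕ) : ∀ (G : Type u) [Group G] [Finite G] (A B : Subgroup G), Nat.card G ≤ n →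
    Group.IsNilpotent A → Group.IsNilpotent B → (∀ g : G, ∃ a ∈ A, ∃ b ∈ B, g = a * b) → Group.IsSolvable G := by
  induction n with
  | zero =>
    intro G _ _ A B hn
    have : 0 < Nat.card G := Nat.card_pos
    omega
  | succ n ih =>
    intro G _ _ A B hn hA hB hAB
    by_contra hns
    have hquot : ∀ N : Subgroup G, ∀ [N.Normal], N ≠ ⊥ → Group.IsSolvable (G ⧸ N) := by
      intro N _ hN
      refine ih (G ⧸ N) _ _ ?_ (nil_map hA N) (nil_map hB N) (fac_map hAB N)
      have := card_quot_lt N hN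
      omega
    have hcore : ∀ (p : ℕ) [Fact p.Prime], Cfsg.pCore p G = ⊥ := by
      intro p _
      by_contra h
      apply hns
      haveI : Group.IsNilpotent (Cfsg.pCore p G) := (Solv.pCore_isPGroup p).isNilpotent
      exact solvable_of_quot (Cfsg.pCore p G) inferInstance (hquot _ h)
    by_cases hcop : (Nat.card A).Coprime (Nat.card B)
    · exact hns (wielandt hA hB hcop hAB)
    · obtain ⟨p, hp, hpd⟩ := Nat.exists_prime_and_dvd (n := (Nat.card A).gcd (Nat.card B)) hcop
      haveI := Fact.mk hp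
      obtain ⟨P₁, h1, -⟩ := nil_syl hA p
      obtain ⟨P₂, h2, -⟩ := nil_syl hB p
      have ne_bot : ∀ {C Q : Subgroup G}, IsSyl p Q C → p ∣ Nat.card C → Q ≠ ⊥ := by
        intro C Q hQ hd hbot
        apply hQ.not_dvd_relIndex
        rw [hbot, Subgroup.relIndex_bot_left]; exact hd
      have hP1 := ne_bot h1 (hpd.trans (Nat.gcd_dvd_left _ _))
      have hP2 := ne_bot h2 (hpd.trans (Nat.gcd_dvd_right _ _))
      have hCC := all_comm (Nat.card G) G p P₁ P₂ le_rfl h1.isPGroup h2.isPGroup (syl_fac hA hB hAB h1 h2) (hcore p)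
      set L₁ := normalClosure (P₁ : Set G) with hL1
      set L₂ := normalClosure (P₂ : Set G) with hL2
      have hL1b : L₁ ≠ ⊥ := fun h3 => hP1 (by rw [eq_bot_iff, ← h3]; exact subset_normalClosure)
      have hL2b : L₂ ≠ ⊥ := fun h3 => hP2 (by rw [eq_bot_iff, ← h3]; exact subset_normalClosure)
      have hc : L₂ ≤ centralizer (L₁ : Set G) := by
        have h3 : P₁ ≤ centralizer (L₂ : Set G) := by
          intro x hx
          have h4 : L₂ ≤ centralizer ({x} : Set G) := by
            rw [hL2, normalClosure, closure_le]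
            intro y hy
            obtain ⟨z, hz, hzy⟩ := Group.mem_conjugatesOfSet_iff.1 hy
            obtain ⟨g, rfl⟩ := isConj_iff.1 hzy
            rw [SetLike.mem_coe, mem_centralizer_singleton_iff]
            exact (hCC g x hx z hz).symm
          rw [mem_centralizer_iff]
          intro y hy
          exact mem_centralizer_singleton_iff.1 (h4 hy)
        have h4 : L₁ ≤ centralizer (L₂ : Set G) := normalClosure_le_normal h3
        intro y hy
        rw [mem_centralizer_iff]
        intro x hx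
        exact ((mem_centralizer_iff.1 (h4 hx)) y hy).symm
      apply hns
      haveI h5 : Group.IsSolvable ↥(L₁ ⊓ L₂) := by
        apply Group.isSolvable_of_comm
        intro a b
        exact Subtype.ext ((mem_centralizer_iff.1 (hc b.2.2)) a a.2.1)
      haveI := hquot L₁ hL1b
      have h6 : Group.IsSolvable L₂ := by
        refine Group.isSolvable_of_ker_le_range (Subgroup.inclusion (inf_le_right : L₁ ⊓ L₂ ≤ L₂))
          ((QuotientGroup.mk' L₁).comp L₂.subtype) ?_
        intro x hx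
        have h7 : (x : G) ∈ L₁ := (QuotientGroup.eq_one_iff (N := L₁) (x : G)).1 hx
        exact ⟨⟨x, (⟨h7, x.2⟩ : (x : G) ∈ L₁ ⊓ L₂)⟩, rfl⟩
      exact solvable_of_quot L₂ h6 (hquot L₂ hL2b)

/-- **Kegel--Wielandt** -/
theorem kegel_wielandt {G : Type u} [Group G] [Finite G] {A B : Subgroup G} (hA : Group.IsNilpotent A)
    (hB : Group.IsNilpotent B) (hAB : ∀ g : G, ∃ a ∈ A, ∃ b ∈ B, g = a * b) : Group.IsSolvable G :=
  kw_aux (Nat.card G) G A B le_rfl hA hB hAB

theorem normal_of_nilpotent {G : Type u} [Group G] [Finite G] (hG : Group.IsNilpotent G) {B : Subgroup G} (hB : B ≠ ⊤) :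
    ∃ N : Subgroup G, N.Normal ∧ N ≠ ⊤ ∧ B ≤ N := by
  obtain ⟨M, hM, hBM⟩ := (eq_top_or_exists_le_coatom B).resolve_left hB
  exact ⟨M, Subgroup.NormalizerCondition.normal_of_coatom _ Group.normalizerCondition_of_isNilpotent hM, hM.1, hBM⟩

theorem proper_aux (n : ℕ) : ∀ (G : Type u) [Group G] [Finite G] (A B : Subgroup G), Nat.card G ≤ n →
    Group.IsNilpotent A → Group.IsNilpotent B → (∀ g : G, ∃ a ∈ A, ∃ b ∈ B, g = a * b) → (A ≠ ⊤ ∨ B ≠ ⊤) →
    ∃ N : Subgroup G, N.Normal ∧ N ≠ ⊤ ∧ (A ≤ N ∨ B ≤ N) := by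
  induction n with
  | zero =>
    intro G _ _ A B hn
    have : 0 < Nat.card G := Nat.card_pos
    omega
  | succ n ih =>
    intro G _ _ A B hn hA hB hAB hpr
    have hs := kegel_wielandt hA hB hAB
    have hstep : ∀ N : Subgroup G, ∀ [N.Normal], N ≠ ⊥ → (A ⊔ N ≠ ⊤ ∨ B ⊔ N ≠ ⊤) →
        ∃ N : Subgroup G, N.Normal ∧ N ≠ ⊤ ∧ (A ≤ N ∨ B ≤ N) := by
      intro N _ hN hAN
      have hsurj : Function.Surjective (QuotientGroup.mk' N) := QuotientGroup.mk'_surjective N
      have hconv : ∀ C : Subgroup G, C ⊔ N ≠ ⊤ → C.map (QuotientGroup.mk' N) ≠ ⊤ := by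
        intro C hC h1
        apply hC
        have h2 := congrArg (Subgroup.comap (QuotientGroup.mk' N)) h1
        rwa [Subgroup.comap_map_eq, QuotientGroup.ker_mk', Subgroup.comap_top] at h2
      obtain ⟨K, hK, hKt, hK2⟩ := ih (G ⧸ N) _ _ (by
        have := card_quot_lt N hN
        omega) (nil_map hA N) (nil_map hB N) (fac_map hAB N)
        (hAN.imp (hconv A) (hconv B))
      refine ⟨K.comap (QuotientGroup.mk' N), inferInstance, ?_, ?_⟩
      · intro h1
        apply hKt
        have h2 := congrArg (Subgroup.map (QuotientGroup.mk' N)) h1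
        rwa [Subgroup.map_comap_eq_self_of_surjective hsurj, Subgroup.map_top_of_surjective _ hsurj] at h2
      · exact hK2.imp Subgroup.map_le_iff_le_comap.1 Subgroup.map_le_iff_le_comap.1
    have hnt : (⊤ : Subgroup G) ≠ ⊥ := by
      intro h1
      have h2 : ∀ C : Subgroup G, C = ⊤ := fun C => le_antisymm le_top (by rw [h1]; exact bot_le)
      exact hpr.elim (fun h => h (h2 A)) (fun h => h (h2 B))
    obtain ⟨N, hN, -, hN1, hmin⟩ := Solv.exists_minimal_normal (⊤ : Subgroup G) inferInstance hnt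
    haveI := hs
    obtain ⟨hNc, -⟩ := Solv.minimal_normal_of_solvable N inferInstance hN1 hmin
    obtain ⟨p, hp, hNp⟩ := Solv.minimal_normal_isPGroup N inferInstance hN1 hmin
    haveI := Fact.mk hp
    by_cases hAN : A ⊔ N ≠ ⊤ ∨ B ⊔ N ≠ ⊤
    · exact hstep N hN1 hAN
    push Not at hAN
    -- the intersections with `N`
    have hint : ∀ C : Subgroup G, C ⊔ N = ⊤ → (C ⊓ N).Normal := by
      intro C hC
      rw [← Subgroup.normalizer_eq_top_iff, eq_top_iff, ← hC]
      refine sup_le ?_ ?_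
      · intro c hc
        rw [mem_normalizer_iff_cj, cj_inf, cj_eq_of_mem hc, mem_normalizer_iff_cj.1 (show c ∈ normalizer (N : Set G) by
          rw [Subgroup.normalizer_eq_top]; exact mem_top c)]
      · intro x hx
        rw [mem_normalizer_iff_cj]
        ext y
        rw [mem_cj]
        constructor
        · intro hy
          have h1 : x * (x⁻¹ * y * x) = (x⁻¹ * y * x) * x :=
            Solv.comm_of_isMulCommutative hNc hx hy.2
          have h2 : y = x⁻¹ * y * x := by
            have h3 : y * x = x * (x⁻¹ * y * x) := by group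
            have h4 : y * x = (x⁻¹ * y * x) * x := h3.trans h1
            exact mul_right_cancel h4
          rw [h2]; exact hy
        · intro hy
          have h1 : x * y = y * x := Solv.comm_of_isMulCommutative hNc hx hy.2
          have h2 : x⁻¹ * y * x = y := by rw [mul_assoc, ← h1]; group
          rw [h2]; exact hy
    have htop : ∀ C : Subgroup G, C ⊔ N = ⊤ → C ⊓ N ≠ ⊥ → C = ⊤ := by
      intro C hC hCN
      rcases hmin _ (hint C hC) inf_le_right with h1 | h1
      · exact absurd h1 hCN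
      · have h2 : N ≤ C := inf_eq_right.1 h1
        rw [← hC]; exact (sup_eq_left.2 h2).symm
    have hnil : ∀ C D : Subgroup G, Group.IsNilpotent C → C = ⊤ → D ≠ ⊤ →
        ∃ N : Subgroup G, N.Normal ∧ N ≠ ⊤ ∧ D ≤ N := by
      intro C D hC hCt hD
      subst hCt
      haveI := hC
      have hG : Group.IsNilpotent G := Group.nilpotent_of_surjective ((Subgroup.topEquiv (G := G)).toMonoidHom)
        Subgroup.topEquiv.surjective
      exact normal_of_nilpotent hG hD
    by_cases hA1 : A ⊓ N = ⊥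
    swap
    · have hAt := htop A hAN.1 hA1
      have hBt := hpr.resolve_left (fun h => h hAt)
      obtain ⟨K, h1, h2, h3⟩ := hnil A B hA hAt hBt
      exact ⟨K, h1, h2, Or.inr h3⟩
    by_cases hB1 : B ⊓ N = ⊥
    swap
    · have hBt := htop B hAN.2 hB1
      have hAt := hpr.resolve_right (fun h => h hBt)
      obtain ⟨K, h1, h2, h3⟩ := hnil B A hB hBt hAt
      exact ⟨K, h1, h2, Or.inl h3⟩
    have hcA := card_sup_mul_inf (H := A) (K := N) (by rw [Subgroup.normalizer_eq_top]; exact le_top)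
    have hcB := card_sup_mul_inf (H := B) (K := N) (by rw [Subgroup.normalizer_eq_top]; exact le_top)
    rw [hAN.1, hA1, Subgroup.card_top, Subgroup.card_bot, mul_one] at hcA
    rw [hAN.2, hB1, Subgroup.card_top, Subgroup.card_bot, mul_one] at hcB
    have hAt : A ≠ ⊤ := by
      rintro rfl
      rw [top_inf_eq] at hA1
      exact hN1 hA1
    by_cases hG : IsPGroup p G
    · obtain ⟨K, h1, h2, h3⟩ := normal_of_nilpotent hG.isNilpotent hAt
      exact ⟨K, h1, h2, Or.inl h3⟩
    · -- another prime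
      obtain ⟨q, hq, hqp, hqG⟩ : ∃ q : ℕ, q.Prime ∧ q ≠ p ∧ q ∣ Nat.card G := by
        by_contra hcon
        push Not at hcon
        apply hG
        have h1 := Nat.eq_prime_pow_of_unique_prime_dvd (n := Nat.card G) (p := p) Nat.card_pos.ne' (by
          intro s hs hd
          by_contra hne
          exact hcon s hs hne hd)
        exact IsPGroup.of_card h1
      haveI := Fact.mk hq
      obtain ⟨k, hk⟩ := IsPGroup.iff_card.1 hNp
      have hqN : ¬ q ∣ Nat.card N := by
        rw [hk]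
        intro h1
        exact hqp ((Nat.prime_dvd_prime_iff_eq hq hp).1 (hq.dvd_of_dvd_pow h1))
      have hfc := card_fac hAB
      have hrel : ∀ C D : Subgroup G, Nat.card G = Nat.card D * Nat.card N →
          Nat.card C * Nat.card D = Nat.card G * Nat.card ↥(C ⊓ D) → (C ⊓ D).relIndex C = Nat.card N := by
        intro C D h1 h2
        have h3 : Nat.card ↥(C ⊓ D) * (C ⊓ D).relIndex C = Nat.card C := by
          have := Subgroup.relIndex_mul_relIndex ⊥ (C ⊓ D) C bot_le inf_le_left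
          rwa [Subgroup.relIndex_bot_left, Subgroup.relIndex_bot_left] at this
        have hpos : 0 < Nat.card ↥(C ⊓ D) * Nat.card D := Nat.mul_pos Nat.card_pos Nat.card_pos
        apply Nat.eq_of_mul_eq_mul_left hpos
        calc Nat.card ↥(C ⊓ D) * Nat.card D * (C ⊓ D).relIndex C
            = (Nat.card ↥(C ⊓ D) * (C ⊓ D).relIndex C) * Nat.card D := by ring
          _ = Nat.card G * Nat.card ↥(C ⊓ D) := by rw [h3, h2]
          _ = _ := by rw [h1]; ring
      obtain ⟨Q, hQ⟩ := exists_isSyl q (A ⊓ B)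
      have hQA : IsSyl q Q A := by
        refine isSyl_of_not_dvd hQ.isPGroup (hQ.le.trans inf_le_left) ?_
        rw [← Subgroup.relIndex_mul_relIndex Q (A ⊓ B) A hQ.le inf_le_left, hrel A B hcB hfc]
        intro h1
        rcases hq.dvd_mul.1 h1 with h2 | h2
        · exact hQ.not_dvd_relIndex h2
        · exact hqN h2
      have hQB : IsSyl q Q B := by
        refine isSyl_of_not_dvd hQ.isPGroup (hQ.le.trans inf_le_right) ?_
        have h4 := hrel B A hcA (by rw [inf_comm, mul_comm]; exact hfc)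
        rw [inf_comm] at h4
        rw [← Subgroup.relIndex_mul_relIndex Q (A ⊓ B) B hQ.le inf_le_right, h4]
        intro h1
        rcases hq.dvd_mul.1 h1 with h2 | h2
        · exact hQ.not_dvd_relIndex h2
        · exact hqN h2
      have hQn : Q.Normal := by
        rw [← Subgroup.normalizer_eq_top_iff, eq_top_iff]
        intro g _
        obtain ⟨a, ha, b, hb, rfl⟩ := hAB g
        exact mul_mem (nil_syl' hA hQA ha) (nil_syl' hB hQB hb)
      have hqA : q ∣ Nat.card A := by
        rw [hcA] at hqG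
        exact (hq.dvd_mul.1 hqG).resolve_right hqN
      have hQ1 : Q ≠ ⊥ := by
        intro hbot
        apply hQA.not_dvd_relIndex
        rw [hbot, Subgroup.relIndex_bot_left]; exact hqA
      refine hstep Q hQ1 (Or.inl ?_)
      rw [sup_eq_left.2 hQA.le]
      exact hAt

end Cfsg.Agent.H30.KW
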