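import Mathlib.GroupTheory.Sylow
import Mathlib.Data.Nat.Factorization.Basic
import Cfsg.Agent.H30.Permute
import Cfsg.Agent.S0007

set_option autoImplicit false

/-! Systems of pairwise permuting Sylow subgroups. -/

namespace Cfsg.Agent.H30

open Pointwise

variable {G : Type*} [Group G]

theorem permute_mul {H K X L : Subgroup G} (hL : (L : Set G) = (H : Set G) * (K : Set G))
    (h1 : (H : Set G) * (X : Set G) = (X : Set G) * (H : Set G))
    (h2 : (K : Set G) * (X : Set G) = (X : Set G) * (K : Set G)) :
    (L : Set G) * (X : Set G) = (X : Set G) * (L : Set G) := by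
  rw [hL, mul_assoc, h2, ← mul_assoc, h1, mul_assoc]

theorem exists_prod_subgroup [Finite G] (S : (p : Nat.Primes) → Sylow (p : ℕ) G)
    (hS : ∀ p q : Nat.Primes, (S p : Set G) * (S q : Set G) = (S q : Set G) * (S p : Set G))
    (T : Finset ℕ) (hT : ∀ q ∈ T, q.Prime) :
    ∃ H : Subgroup G, Nat.card ↥H = ∏ q ∈ T, q ^ (Nat.card G).factorization q ∧
      (∀ q : Nat.Primes, (H : Set G) * (S q : Set G) = (S q : Set G) * (H : Set G)) ∧
      (∀ q : Nat.Primes, (q : ℕ) ∈ T → ((S q : Subgroup G)) ≤ H) := by
  classical
  induction T using Finset.induction_on with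
  | empty =>
    refine ⟨⊥, by simp, ?_, by simp⟩
    intro q
    simp
  | insert a T ha ih =>
    obtain ⟨H, hc, hp, hle⟩ := ih (fun q hq => hT q (Finset.mem_insert_of_mem hq))
    have hap : a.Prime := hT a (Finset.mem_insert_self a T)
    have : Fact a.Prime := ⟨hap⟩
    let A : Nat.Primes := ⟨a, hap⟩
    have hSA : Nat.card ↥(S A : Subgroup G) = a ^ (Nat.card G).factorization a :=
      Sylow.card_eq_multiplicity (p := a) (S A)
    have hL : ((mulSubgroup H (S A : Subgroup G) (hp A) : Subgroup G) : Set G) =
      (H : Set G) * ((S A : Subgroup G) : Set G) := rfl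
    refine ⟨mulSubgroup H (S A : Subgroup G) (hp A), ?_, ?_, ?_⟩
    · rw [card_of_coprime hL, hc, hSA, Finset.prod_insert ha, mul_comm]
      rw [hc, hSA]
      apply Nat.Coprime.prod_left
      intro q hq
      apply Nat.Coprime.pow
      rw [Nat.coprime_primes (hT q (Finset.mem_insert_of_mem hq)) hap]
      rintro rfl
      exact ha hq
    · intro q
      exact permute_mul (X := (S q : Subgroup G)) hL (hp q) (hS A q)
    · intro q hq
      rw [Finset.mem_insert] at hq
      rcases hq with hq | hq
      · have hqA : q = A := Subtype.ext hq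
        rw [hqA]
        exact le_right_of_coe_eq hL
      · exact (hle q hq).trans (le_left_of_coe_eq hL)

theorem prod_factorization_erase {n : ℕ} (hn : n ≠ 0) (p : ℕ) :
    p ^ n.factorization p * ∏ q ∈ n.primeFactors.erase p, q ^ n.factorization q = n := by
  classical
  have h1 : ∏ q ∈ n.primeFactors, q ^ n.factorization q = n := Nat.prod_factorization_pow_eq_self hn
  by_cases hp : p ∈ n.primeFactors
  · exact (Finset.mul_prod_erase n.primeFactors (fun q => q ^ n.factorization q) hp).trans h1
  · rw [Finset.erase_eq_of_notMem hp, h1]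
    have : n.factorization p = 0 := by
      rw [← Finsupp.notMem_support_iff, Nat.support_factorization]; exact hp
    rw [this, pow_zero, one_mul]

theorem index_biInf [Finite G] (K : ℕ → Subgroup G)
    (hK : ∀ p : ℕ, p.Prime → (K p).index = p ^ (Nat.card G).factorization p)
    (T : Finset ℕ) (hT : ∀ q ∈ T, q.Prime) :
    (⨅ q ∈ T, K q).index = ∏ q ∈ T, q ^ (Nat.card G).factorization q := by
  classical
  induction T using Finset.induction_on with
  | empty => simp
  | insert a T ha ih =>
    have hap : a.Prime := hT a (Finset.mem_insert_self a T)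
    have ih' := ih (fun q hq => hT q (Finset.mem_insert_of_mem hq))
    rw [Finset.iInf_insert, Finset.prod_insert ha]
    have hcop : (K a).index.Coprime (⨅ q ∈ T, K q).index := by
      rw [ih', hK a hap]
      apply Nat.Coprime.prod_right
      intro q hq
      apply Nat.Coprime.pow
      rw [Nat.coprime_primes hap (hT q (Finset.mem_insert_of_mem hq))]
      rintro rfl
      exact ha hq
    rw [(Cfsg.Agent.S0007.result _ _ hcop).1, ih', hK a hap]

/-- The Sylow system attached to a system of `p`-complements. -/
theorem exists_sylow_system [Finite G] (K : ℕ → Subgroup G)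
    (hK : ∀ p : ℕ, p.Prime → (K p).index = p ^ (Nat.card G).factorization p) :
    ∃ S : (p : Nat.Primes) → Sylow (p : ℕ) G,
      (∀ p : Nat.Primes, (S p : Subgroup G) = ⨅ q ∈ (Nat.card G).primeFactors.erase p, K q) ∧
      ∀ p q : Nat.Primes, (S p : Set G) * (S q : Set G) = (S q : Set G) * (S p : Set G) := by
  classical
  have hG0 : Nat.card G ≠ 0 := Nat.card_pos.ne'
  have hTp : ∀ p : ℕ, ∀ q ∈ (Nat.card G).primeFactors.erase p, q.Prime := fun p q hq =>
    Nat.prime_of_mem_primeFactors (Finset.mem_of_mem_erase hq)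
  have hcard : ∀ p : ℕ, Nat.card ↥(⨅ q ∈ (Nat.card G).primeFactors.erase p, K q) =
      p ^ (Nat.card G).factorization p := by
    intro p
    have h1 := index_biInf K hK ((Nat.card G).primeFactors.erase p) (hTp p)
    have h2 := prod_factorization_erase hG0 p
    have h3 := (⨅ q ∈ (Nat.card G).primeFactors.erase p, K q).index_mul_card
    rw [h1] at h3
    have h4 : 0 < ∏ q ∈ (Nat.card G).primeFactors.erase p, q ^ (Nat.card G).factorization q :=
      Finset.prod_pos (fun q hq => pow_pos (hTp p q hq).pos _)
    apply Nat.eq_of_mul_eq_mul_left h4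
    rw [h3, mul_comm]
    exact h2.symm
  have hF : ∀ p : Nat.Primes, Fact (p : ℕ).Prime := fun p => ⟨p.2⟩
  refine ⟨fun p => Sylow.ofCard (⨅ q ∈ (Nat.card G).primeFactors.erase p, K q) (hcard p), fun p => rfl, ?_⟩
  intro p q
  by_cases hpq : p = q
  · rw [hpq]
  have hpq' : (p : ℕ) ≠ q := fun h => hpq (Subtype.ext h)
  set A := ⨅ r ∈ (Nat.card G).primeFactors.erase p, K r with hA
  set B := ⨅ r ∈ (Nat.card G).primeFactors.erase q, K r with hB
  set T := ((Nat.card G).primeFactors.erase p).erase q with hT
  have hTT : ∀ r ∈ T, r.Prime := fun r hr => hTp p r (Finset.mem_of_mem_erase hr)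
  set L := ⨅ r ∈ T, K r with hL
  have hAL : A ≤ L := by
    refine le_iInf₂ (fun r hr => ?_)
    exact iInf₂_le r (Finset.mem_of_mem_erase hr)
  have hBL : B ≤ L := by
    refine le_iInf₂ (fun r hr => ?_)
    have : r ∈ (Nat.card G).primeFactors.erase q := by
      rw [hT, Finset.mem_erase, Finset.mem_erase] at hr
      exact Finset.mem_erase.2 ⟨hr.1, hr.2.2⟩
    exact iInf₂_le r this
  have hcA : Nat.card ↥A = (p : ℕ) ^ (Nat.card G).factorization p := hcard p
  have hcB : Nat.card ↥B = (q : ℕ) ^ (Nat.card G).factorization q := hcard q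
  have hcop : (Nat.card ↥A).Coprime (Nat.card ↥B) := by
    rw [hcA, hcB]
    exact Nat.Coprime.pow _ _ ((Nat.coprime_primes p.2 q.2).2 hpq')
  have hcL : Nat.card ↥L = Nat.card ↥A * Nat.card ↥B := by
    have h1 := index_biInf K hK T hTT
    have h3 := L.index_mul_card
    rw [h1] at h3
    have h4 : 0 < ∏ q ∈ T, q ^ (Nat.card G).factorization q :=
      Finset.prod_pos (fun q hq => pow_pos (hTT q hq).pos _)
    apply Nat.eq_of_mul_eq_mul_left h4
    rw [h3, hcA, hcB]
    have h5 : (q : ℕ) ^ (Nat.card G).factorization q * ∏ r ∈ T, r ^ (Nat.card G).factorization r =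
        ∏ r ∈ (Nat.card G).primeFactors.erase p, r ^ (Nat.card G).factorization r := by
      by_cases hq : (q : ℕ) ∈ (Nat.card G).primeFactors.erase p
      · exact Finset.mul_prod_erase _ (fun r => r ^ (Nat.card G).factorization r) hq
      · rw [hT, Finset.erase_eq_of_notMem hq]
        have : (Nat.card G).factorization q = 0 := by
          rw [← Finsupp.notMem_support_iff, Nat.support_factorization]
          intro h
          exact hq (Finset.mem_erase.2 ⟨fun h => hpq' h.symm, h⟩)
        rw [this, pow_zero, one_mul]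
    have h2 := prod_factorization_erase hG0 p
    rw [← h5] at h2
    calc Nat.card G = _ := h2.symm
      _ = _ := by ring
  have e1 := coe_eq_mul_of_card hAL hBL hcop hcL.le
  have e2 := coe_eq_mul_of_card hBL hAL hcop.symm (by rw [hcL, mul_comm])
  change (A : Set G) * (B : Set G) = (B : Set G) * (A : Set G)
  rw [← e1, ← e2]

end Cfsg.Agent.H30
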